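import Cfsg.Agent.SporB.He.Out.Base

/-!
Checks of `survAt`, part 1.
-/

set_option autoImplicit false
set_option maxRecDepth 100000

namespace Cfsg.Agent.CosetEnum.He.Out

theorem surv_10 : allRange survAt 2560 256 = true := by decide +kernel

theorem surv_11 : allRange survAt 2816 256 = true := by decide +kernel

theorem surv_12 : allRange survAt 3072 256 = true := by decide +kernel

theorem surv_13 : allRange survAt 3328 256 = true := by decide +kernel

theorem surv_14 : allRange survAt 3584 256 = true := by decide +kernel

theorem surv_15 : allRange survAt 3840 256 = true := by decide +kernel

theorem surv_16 : allRange survAt 4096 256 = true := by decide +kernel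

theorem surv_17 : allRange survAt 4352 256 = true := by decide +kernel

theorem surv_18 : allRange survAt 4608 256 = true := by decide +kernel

theorem surv_19 : allRange survAt 4864 256 = true := by decide +kernel

end Cfsg.Agent.CosetEnum.He.Out
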