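import Cfsg.Agent.SporB.He.Out.Base

/-!
Checks of `survAt`, part 2.
-/

set_option autoImplicit false
set_option maxRecDepth 100000

namespace Cfsg.Agent.CosetEnum.He.Out

theorem surv_20 : allRange survAt 5120 256 = true := by decide +kernel

theorem surv_21 : allRange survAt 5376 256 = true := by decide +kernel

theorem surv_22 : allRange survAt 5632 256 = true := by decide +kernel

theorem surv_23 : allRange survAt 5888 256 = true := by decide +kernel

theorem surv_24 : allRange survAt 6144 256 = true := by decide +kernel

theorem surv_25 : allRange survAt 6400 256 = true := by decide +kernel

theorem surv_26 : allRange survAt 6656 256 = true := by decide +kernel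

theorem surv_27 : allRange survAt 6912 256 = true := by decide +kernel

theorem surv_28 : allRange survAt 7168 256 = true := by decide +kernel

theorem surv_29 : allRange survAt 7424 256 = true := by decide +kernel

end Cfsg.Agent.CosetEnum.He.Out
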