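import Cfsg.Agent.SporB.He.Out.Base

/-!
Checks of `survAt`, part 3.
-/

set_option autoImplicit false
set_option maxRecDepth 100000

namespace Cfsg.Agent.CosetEnum.He.Out

theorem surv_30 : allRange survAt 7680 256 = true := by decide +kernel

theorem surv_31 : allRange survAt 7936 256 = true := by decide +kernel

theorem surv_32 : allRange survAt 8192 256 = true := by decide +kernel

theorem surv_33 : allRange survAt 8448 256 = true := by decide +kernel

theorem surv_34 : allRange survAt 8704 256 = true := by decide +kernel

theorem surv_35 : allRange survAt 8960 256 = true := by decide +kernel

theorem surv_36 : allRange survAt 9216 256 = true := by decide +kernel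

theorem surv_37 : allRange survAt 9472 256 = true := by decide +kernel

theorem surv_38 : allRange survAt 9728 256 = true := by decide +kernel

theorem surv_39 : allRange survAt 9984 256 = true := by decide +kernel

end Cfsg.Agent.CosetEnum.He.Out
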