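import Cfsg.Agent.SporB.He.Out.Base

/-!
Checks of `survAt`, part 4.
-/

set_option autoImplicit false
set_option maxRecDepth 100000

namespace Cfsg.Agent.CosetEnum.He.Out

theorem surv_40 : allRange survAt 10240 256 = true := by decide +kernel

theorem surv_41 : allRange survAt 10496 256 = true := by decide +kernel

theorem surv_42 : allRange survAt 10752 256 = true := by decide +kernel

theorem surv_43 : allRange survAt 11008 256 = true := by decide +kernel

theorem surv_44 : allRange survAt 11264 256 = true := by decide +kernel

theorem surv_45 : allRange survAt 11520 256 = true := by decide +kernel

theorem surv_46 : allRange survAt 11776 256 = true := by decide +kernel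

theorem surv_47 : allRange survAt 12032 256 = true := by decide +kernel

theorem surv_48 : allRange survAt 12288 256 = true := by decide +kernel

theorem surv_49 : allRange survAt 12544 256 = true := by decide +kernel

end Cfsg.Agent.CosetEnum.He.Out
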