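import Cfsg.Agent.SporB.He.Out.Base

/-!
Checks of `survAt`, part 5.
-/

set_option autoImplicit false
set_option maxRecDepth 100000

namespace Cfsg.Agent.CosetEnum.He.Out

theorem surv_50 : allRange survAt 12800 256 = true := by decide +kernel

theorem surv_51 : allRange survAt 13056 256 = true := by decide +kernel

theorem surv_52 : allRange survAt 13312 256 = true := by decide +kernel

theorem surv_53 : allRange survAt 13568 256 = true := by decide +kernel

theorem surv_54 : allRange survAt 13824 256 = true := by decide +kernel

theorem surv_55 : allRange survAt 14080 256 = true := by decide +kernel

theorem surv_56 : allRange survAt 14336 256 = true := by decide +kernel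

theorem surv_57 : allRange survAt 14592 256 = true := by decide +kernel

theorem surv_58 : allRange survAt 14848 256 = true := by decide +kernel

theorem surv_59 : allRange survAt 15104 196 = true := by decide +kernel

end Cfsg.Agent.CosetEnum.He.Out
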