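import Cfsg.Agent.SporB.He.Out.Surv0
import Cfsg.Agent.SporB.He.Out.Surv1
import Cfsg.Agent.SporB.He.Out.Surv2
import Cfsg.Agent.SporB.He.Out.Surv3
import Cfsg.Agent.SporB.He.Out.Surv4
import Cfsg.Agent.SporB.He.Out.Surv5

/-!
All checks of `survAt`.
-/

set_option autoImplicit false

namespace Cfsg.Agent.CosetEnum.He.Out

theorem surv : ∀ i < 15300, survAt i = true := fun i hi =>
  if h2_0 : i < 7680 then
    if h4_0 : i < 3840 then
      if h6_0 : i < 1792 then
        if h8_0 : i < 768 then
          if h10_0 : i < 256 then
            allRange_spec surv_0 i (by omega) (by omega)
          else
            if h12_1 : i < 512 then
              allRange_spec surv_1 i (by omega) (by omega)
            else
              allRange_spec surv_2 i (by omega) (by omega)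
        else
          if h10_3 : i < 1280 then
            if h12_3 : i < 1024 then
              allRange_spec surv_3 i (by omega) (by omega)
            else
              allRange_spec surv_4 i (by omega) (by omega)
          else
            if h12_5 : i < 1536 then
              allRange_spec surv_5 i (by omega) (by omega)
            else
              allRange_spec surv_6 i (by omega) (by omega)
      else
        if h8_7 : i < 2816 then
          if h10_7 : i < 2304 then
            if h12_7 : i < 2048 then
              allRange_spec surv_7 i (by omega) (by omega)
            else
              allRange_spec surv_8 i (by omega) (by omega)
          else
            if h12_9 : i < 2560 then
              allRange_spec surv_9 i (by omega) (by omega)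
            else
              allRange_spec surv_10 i (by omega) (by omega)
        else
          if h10_11 : i < 3328 then
            if h12_11 : i < 3072 then
              allRange_spec surv_11 i (by omega) (by omega)
            else
              allRange_spec surv_12 i (by omega) (by omega)
          else
            if h12_13 : i < 3584 then
              allRange_spec surv_13 i (by omega) (by omega)
            else
              allRange_spec surv_14 i (by omega) (by omega)
    else
      if h6_15 : i < 5632 then
        if h8_15 : i < 4608 then
          if h10_15 : i < 4096 then
            allRange_spec surv_15 i (by omega) (by omega)
          else
            if h12_16 : i < 4352 then
              allRange_spec surv_16 i (by omega) (by omega)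
            else
              allRange_spec surv_17 i (by omega) (by omega)
        else
          if h10_18 : i < 5120 then
            if h12_18 : i < 4864 then
              allRange_spec surv_18 i (by omega) (by omega)
            else
              allRange_spec surv_19 i (by omega) (by omega)
          else
            if h12_20 : i < 5376 then
              allRange_spec surv_20 i (by omega) (by omega)
            else
              allRange_spec surv_21 i (by omega) (by omega)
      else
        if h8_22 : i < 6656 then
          if h10_22 : i < 6144 then
            if h12_22 : i < 5888 then
              allRange_spec surv_22 i (by omega) (by omega)
            else
              allRange_spec surv_23 i (by omega) (by omega)
          else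
            if h12_24 : i < 6400 then
              allRange_spec surv_24 i (by omega) (by omega)
            else
              allRange_spec surv_25 i (by omega) (by omega)
        else
          if h10_26 : i < 7168 then
            if h12_26 : i < 6912 then
              allRange_spec surv_26 i (by omega) (by omega)
            else
              allRange_spec surv_27 i (by omega) (by omega)
          else
            if h12_28 : i < 7424 then
              allRange_spec surv_28 i (by omega) (by omega)
            else
              allRange_spec surv_29 i (by omega) (by omega)
  else
    if h4_30 : i < 11520 then
      if h6_30 : i < 9472 then
        if h8_30 : i < 8448 then
          if h10_30 : i < 7936 then
            allRange_spec surv_30 i (by omega) (by omega)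
          else
            if h12_31 : i < 8192 then
              allRange_spec surv_31 i (by omega) (by omega)
            else
              allRange_spec surv_32 i (by omega) (by omega)
        else
          if h10_33 : i < 8960 then
            if h12_33 : i < 8704 then
              allRange_spec surv_33 i (by omega) (by omega)
            else
              allRange_spec surv_34 i (by omega) (by omega)
          else
            if h12_35 : i < 9216 then
              allRange_spec surv_35 i (by omega) (by omega)
            else
              allRange_spec surv_36 i (by omega) (by omega)
      else
        if h8_37 : i < 10496 then
          if h10_37 : i < 9984 then
            if h12_37 : i < 9728 then
              allRange_spec surv_37 i (by omega) (by omega)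
            else
              allRange_spec surv_38 i (by omega) (by omega)
          else
            if h12_39 : i < 10240 then
              allRange_spec surv_39 i (by omega) (by omega)
            else
              allRange_spec surv_40 i (by omega) (by omega)
        else
          if h10_41 : i < 11008 then
            if h12_41 : i < 10752 then
              allRange_spec surv_41 i (by omega) (by omega)
            else
              allRange_spec surv_42 i (by omega) (by omega)
          else
            if h12_43 : i < 11264 then
              allRange_spec surv_43 i (by omega) (by omega)
            else
              allRange_spec surv_44 i (by omega) (by omega)
    else
      if h6_45 : i < 13312 then
        if h8_45 : i < 12288 then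
          if h10_45 : i < 11776 then
            allRange_spec surv_45 i (by omega) (by omega)
          else
            if h12_46 : i < 12032 then
              allRange_spec surv_46 i (by omega) (by omega)
            else
              allRange_spec surv_47 i (by omega) (by omega)
        else
          if h10_48 : i < 12800 then
            if h12_48 : i < 12544 then
              allRange_spec surv_48 i (by omega) (by omega)
            else
              allRange_spec surv_49 i (by omega) (by omega)
          else
            if h12_50 : i < 13056 then
              allRange_spec surv_50 i (by omega) (by omega)
            else
              allRange_spec surv_51 i (by omega) (by omega)
      else
        if h8_52 : i < 14336 then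
          if h10_52 : i < 13824 then
            if h12_52 : i < 13568 then
              allRange_spec surv_52 i (by omega) (by omega)
            else
              allRange_spec surv_53 i (by omega) (by omega)
          else
            if h12_54 : i < 14080 then
              allRange_spec surv_54 i (by omega) (by omega)
            else
              allRange_spec surv_55 i (by omega) (by omega)
        else
          if h10_56 : i < 14848 then
            if h12_56 : i < 14592 then
              allRange_spec surv_56 i (by omega) (by omega)
            else
              allRange_spec surv_57 i (by omega) (by omega)
          else
            if h12_58 : i < 15104 then
              allRange_spec surv_58 i (by omega) (by omega)
            else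
              allRange_spec surv_59 i (by omega) (by omega)

end Cfsg.Agent.CosetEnum.He.Out
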