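import Cfsg.Agent.SporB.He.Out.Base

/-!
Checks on the tuples of images of the generators of He.
-/

set_option autoImplicit false
set_option maxRecDepth 100000

namespace Cfsg.Agent.CosetEnum.He.Out

open OutData

/-- The checks on a possible image of `a` next to the second involution. -/
noncomputable def twoAt (n : ℕ) : Bool :=
  let A := kTwo.getD n []
  neW (A ++ A) [] || eqW A [] || eqW (twoW.getD n [] ++ [3] ++ (twoW.getD n []).reverse) A

/-- The checks on a possible image of the pair `a`, `b`. -/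
noncomputable def pairAt (n : ℕ) : Bool :=
  let A := kE.getD (n / 24) []
  let B := kE.getD (n % 24) []
  neW (A ++ A) [] || eqW A [] || neW (B ++ B) [] || eqW B [] || neW (repWord (A ++ B) 4) [] ||
    eqW (repWord (A ++ B) 2) [] ||
    (let w := pairW.getD n (0, false)
     let q := kE.getD w.1 []
     Nat.blt w.1 24 && bif w.2 then eqW (q ++ A ++ q.reverse) [1] && eqW (q ++ B ++ q.reverse) [0]
       else eqW (q ++ A ++ q.reverse) [0] && eqW (q ++ B ++ q.reverse) [1])

/-- The element of the centraliser of `e` of a word. -/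
def conjW (q : List ℕ) : List ℕ := [3, 4] ++ q ++ [4, 3]

/-- The checks on a possible image of `c`. -/
noncomputable def cAt (n : ℕ) : Bool :=
  let C := conjW (kA.getD n [])
  neW (C ++ C) [] || neW (repWord ([1] ++ C) 3) [] || neW (repWord (C ++ [3]) 5) [0] ||
    neW (repWord ([0] ++ [1] ++ C) 3) [4] || candC.any (Nat.beq n)

/-- The checks on a possible image of `c` in the swapped case. -/
noncomputable def cAt' (n : ℕ) : Bool :=
  let C := conjW (kB.getD n [])
  neW (C ++ C) [] || neW (repWord ([0] ++ C) 3) [] || neW (repWord (C ++ [3]) 5) [1] ||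
    neW (repWord ([1] ++ [0] ++ C) 3) [4]

/-- The checks on a possible image of `f` or `g`. -/
noncomputable def fAt (n : ℕ) : Bool :=
  let Q := kA.getD n []
  neW (Q ++ [1]) ([1] ++ Q) || neW (conjW Q ++ conjW Q) [] ||
    neW (repWord (conjW Q ++ [3]) 3) [] || candF.any (Nat.beq n)

/-- The possible images of the generators. -/
def tuple (i j k : ℕ) : List (List ℕ) :=
  [[0], [1], conjW (kA.getD i []), [3], [4], conjW (kA.getD j []), conjW (kA.getD k [])]

/-- The letters as words. -/
def letters : List (List ℕ) := [[0], [1], [2], [3], [4], [5], [6]]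

/-- The checks on a tuple. -/
noncomputable def tupAt (n : ℕ) : Bool :=
  let σ := tuple (candC.getD (n / 9) 0) (candF.getD (n / 3 % 3) 0) (candF.getD (n % 3) 0)
  Rep.relsLit.any (fun W => neW (subst σ W) []) ||
    (let w := tupW.getD n (0, false)
     let q := kE.getD w.1 []
     Nat.blt w.1 24 && allRange (fun l => eqW (q ++ σ.getD l [] ++ q.reverse)
       ((bif w.2 then outer else letters).getD l [])) 0 7)

theorem two_ok : allRange twoAt 0 8 = true ∧ kTwo.length = 8 := by decide +kernel

theorem pair_ok : allRange pairAt 0 576 = true ∧ kE.length = 24 := by decide +kernel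

theorem c_ok : allRange cAt 0 512 = true ∧ kA.length = 512 := by decide +kernel

theorem c_ok' : allRange cAt' 0 256 = true ∧ kB.length = 256 := by decide +kernel

theorem f_ok : allRange fAt 0 512 = true := by decide +kernel

theorem tup_ok : allRange tupAt 0 18 = true ∧ candC.length = 2 ∧ candF.length = 3 := by decide +kernel

theorem kE_comm : kE.all (fun q => eqW (q ++ [3]) ([3] ++ q) && eqW (q ++ [4]) ([4] ++ q)) = true := by
  decide +kernel

theorem gen_facts :
    eqW ([3, 4] ++ [3] ++ [4, 3]) [4] = true ∧ eqW (repWord ([4] ++ [3]) 3) [] = true ∧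
    neW [4] [3] = true ∧
    eqW ([0] ++ [3]) ([3] ++ [0]) = true ∧ eqW ([1] ++ [3]) ([3] ++ [1]) = true ∧
    eqW ([0] ++ [4]) ([4] ++ [0]) = true ∧ eqW ([1] ++ [4]) ([4] ++ [1]) = true ∧
    eqW ([0] ++ [0]) [] = true ∧ eqW ([1] ++ [1]) [] = true ∧ neW [1] [] = true ∧ neW [0] [] = true ∧
    eqW (repWord ([0] ++ [1]) 4) [] = true ∧ neW (repWord ([0] ++ [1]) 2) [] = true := by
  decide +kernel

theorem rel_facts :
    eqW ([2] ++ [4]) ([4] ++ [2]) = true ∧ eqW ([2] ++ [0]) ([0] ++ [2]) = true ∧
    eqW ([2] ++ [2]) [] = true ∧ eqW (repWord ([1] ++ [2]) 3) [] = true ∧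
    eqW (repWord ([2] ++ [3]) 5) [0] = true ∧ eqW (repWord ([0] ++ [1] ++ [2]) 3) [4] = true ∧
    eqW ([5] ++ [4]) ([4] ++ [5]) = true ∧ eqW ([5] ++ [0]) ([0] ++ [5]) = true ∧
    eqW ([5] ++ [1]) ([1] ++ [5]) = true ∧ eqW ([5] ++ [5]) [] = true ∧
    eqW (repWord ([5] ++ [3]) 3) [] = true ∧
    eqW ([6] ++ [4]) ([4] ++ [6]) = true ∧ eqW ([6] ++ [0]) ([0] ++ [6]) = true ∧
    eqW ([6] ++ [1]) ([1] ++ [6]) = true ∧ eqW ([6] ++ [6]) [] = true ∧
    eqW (repWord ([6] ++ [3]) 3) [] = true := by
  decide +kernel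

theorem conj_facts : eqW ([4, 3] ++ [4] ++ [3, 4]) [3] = true ∧
    eqW ([4, 3] ++ [0] ++ [3, 4]) [0] = true ∧ eqW ([4, 3] ++ [1] ++ [3, 4]) [1] = true := by
  decide +kernel

theorem outer_ok : Rep.relsLit.all (fun W => eqW (subst outer W) []) = true ∧
    eqW (outer.getD 3 []) [3] = true ∧ eqW (outer.getD 4 []) [4] = true := by decide +kernel

theorem outer_not_inner : kE.all (fun q => (List.range 7).any fun l =>
    neW (q ++ [l] ++ q.reverse) (outer.getD l [])) = true := by decide +kernel

end Cfsg.Agent.CosetEnum.He.Out
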