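import Cfsg.Agent.SporB.He.Out.Class
import Cfsg.Agent.SporB.He.Out.Surv
import Cfsg.Agent.SporB.He.Out.Tuples
import Cfsg.Prelude.Def_KGroupFacts

/-!
The outer automorphism group of He has order 2.
-/

set_option autoImplicit false
set_option maxRecDepth 100000

namespace Cfsg.Agent.CosetEnum.He.Out

open OutData

theorem hw_rep (u : List ℕ) (m : ℕ) : hw (repWord u m) = hw u ^ m := evalWord_repWord _ u m

theorem get_range {p : ℕ → Bool} {N : ℕ} (h : allRange p 0 N = true) {n : ℕ} (hn : n < N) : p n = true :=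
  allRange_spec h n (Nat.zero_le _) (by rwa [Nat.zero_add])

theorem getD_mem {ws : List (List ℕ)} {n : ℕ} (h : n < ws.length) : ws.getD n [] ∈ ws := by
  rw [List.getD_eq_getElem _ _ h]; exact List.getElem_mem h

theorem comm_map {G : Type*} [Group G] (γ : MulAut G) {x y : G} (h : x * y = y * x) :
    γ x * γ y = γ y * γ x := by rw [← map_mul, h, map_mul]

theorem kE_spec {q : List ℕ} (hq : q ∈ kE) :
    hw q * Cen.z = Cen.z * hw q ∧ hw q * hw [4] = hw [4] * hw q := by
  have h := kE_comm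
  rw [List.all_eq_true] at h
  have h' := h q hq
  rw [Bool.and_eq_true] at h'
  have a1 := eq_of_eqW h'.1
  have a2 := eq_of_eqW h'.2
  rw [hw_append, hw_append] at a1 a2
  rw [hw_three] at a1
  exact ⟨a1, a2⟩

theorem fix_base {x : pres.Gp} (hx : IsConj Cen.z x)
    (h0 : rep.hom nodup x rep.base = rep.base) : ∃ i < 3825, x = hw (Cen.conjWord i) := by
  classical
  haveI := He.finite
  haveI : Fintype pres.Gp := Fintype.ofFinite _
  set F := Cen.cls.filter fun x => rep.hom nodup x rep.base = rep.base with hF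
  let f : Fin 3825 → pres.Gp := fun i => evalWord pres.val (Cen.conjWord i)
  have hval : ∀ (i : Fin 3825) (p : Fin Rep.tbl.n),
      (((rep.hom nodup (f i))⁻¹ p : Fin Rep.tbl.n) : ℕ) = Rep.tbl.run (Cen.conjWord i) p :=
    fun i p => rep.hom_inv_apply nodup (Cen.conj_letters i i.2) p
  have hfix : ∀ i : Fin 3825, f i ∈ F := by
    intro i
    rw [hF, Finset.mem_filter, Cen.cls, Finset.mem_filter]
    refine ⟨⟨Finset.mem_univ _, Cen.conj_isConj i⟩, ?_⟩
    have h := Cen.conj i i.2
    simp only [Cen.conjCheck, Bool.and_eq_true] at h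
    have hb : (rep.hom nodup (f i))⁻¹ rep.base = rep.base := by
      apply Fin.ext
      rw [hval]
      exact Nat.eq_of_beq_eq_true h.1.2
    rw [Equiv.Perm.inv_eq_iff_eq] at hb
    exact hb.symm
  have hf : Function.Injective f := by
    intro i j h
    have e : ∀ p : Fin Rep.tbl.n,
        Rep.tbl.run (Cen.conjWord i) p = Rep.tbl.run (Cen.conjWord j) p := fun p => by
      rw [← hval, ← hval, h]
    have hk : Cen.conjKey i = Cen.conjKey j := by
      simp only [Cen.conjKey]
      rw [show Rep.tbl.run (Cen.conjWord i) 0 = Rep.tbl.run (Cen.conjWord j) 0 from e ⟨0, by decide⟩,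
        show Rep.tbl.run (Cen.conjWord i) 1 = Rep.tbl.run (Cen.conjWord j) 1 from e ⟨1, by decide⟩,
        show Rep.tbl.run (Cen.conjWord i) 15 = Rep.tbl.run (Cen.conjWord j) 15 from e ⟨15, by decide⟩,
        show Rep.tbl.run (Cen.conjWord i) 34 = Rep.tbl.run (Cen.conjWord j) 34 from e ⟨34, by decide⟩]
    apply Fin.ext
    rcases lt_trichotomy (i : ℕ) j with h' | h' | h'
    · have := Cen.key_mono j j.2 i h'; omega
    · exact h'
    · have := Cen.key_mono i i.2 j h'; omega
  have hn : ∀ i : Fin Rep.tbl.n, F.card ≤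
      (Finset.bipartiteBelow (fun (x : pres.Gp) (i : Fin Rep.tbl.n) =>
        rep.hom nodup x i = i) Cen.cls i).card := by
    intro i
    obtain ⟨g, hg⟩ := rep.transitive nodup Rep.descend i
    refine Finset.card_le_card_of_injOn (fun x => g * x * g⁻¹) ?_ (fun a _ b _ h => by simpa using h)
    intro y hy
    rw [Finset.mem_coe, hF, Finset.mem_filter] at hy
    rw [Finset.mem_coe, Finset.mem_bipartiteBelow]
    have hy1 : IsConj Cen.z y := (Finset.mem_filter.mp hy.1).2
    refine ⟨Finset.mem_filter.mpr ⟨Finset.mem_univ _, hy1.trans (isConj_iff.mpr ⟨g, rfl⟩)⟩, ?_⟩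
    rw [map_mul, map_mul, map_inv, Equiv.Perm.mul_apply, Equiv.Perm.mul_apply, ← hg,
      ← Equiv.Perm.mul_apply (rep.hom nodup g)⁻¹, inv_mul_cancel, Equiv.Perm.one_apply, hy.2]
  have hsum := Finset.sum_card_bipartiteAbove_eq_sum_card_bipartiteBelow
    (r := fun (x : pres.Gp) (i : Fin Rep.tbl.n) => rep.hom nodup x i = i)
    (s := Cen.cls) (t := (Finset.univ : Finset (Fin Rep.tbl.n)))
  have hl : ∀ x ∈ Cen.cls, (Finset.bipartiteAbove (fun (x : pres.Gp) (i : Fin Rep.tbl.n) =>
      rep.hom nodup x i = i) Finset.univ x).card = 42 := fun x hx => Cen.fix_card hx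
  rw [Finset.sum_congr rfl hl, Finset.sum_const, smul_eq_mul] at hsum
  have h2 := Finset.card_nsmul_le_sum _ _ _ (fun i (_ : i ∈ (Finset.univ : Finset (Fin Rep.tbl.n))) => hn i)
  rw [← hsum, Finset.card_univ, Fintype.card_fin, smul_eq_mul, show Rep.tbl.n = 2058 from rfl] at h2
  have hcls : Cen.cls.card = 187425 := by
    have h := Subgroup.card_mul_index (MulAction.stabilizer (ConjAct pres.Gp) Cen.z)
    rw [MulAction.index_stabilizer] at h
    have horb : MulAction.orbit (ConjAct pres.Gp) Cen.z = (Cen.cls : Set pres.Gp) := by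
      ext y
      rw [Cen.cls, Finset.coe_filter, ConjAct.mem_orbit_conjAct]
      exact ⟨fun e => ⟨Finset.mem_univ _, e.symm⟩, fun e => e.2.symm⟩
    have hc : Nat.card (MulAction.stabilizer (ConjAct pres.Gp) Cen.z) =
        Nat.card (Subgroup.centralizer ({Cen.z} : Set pres.Gp)) := by
      rw [ConjAct.stabilizer_eq_centralizer]
      rfl
    rw [horb, Set.ncard_coe_finset, hc, centralizer_eq.2,
      show Nat.card (ConjAct pres.Gp) = 4030387200 from card_eq.1] at h
    omega
  rw [hcls] at h2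
  have himg : Finset.univ.map ⟨f, hf⟩ = F := by
    refine Finset.eq_of_subset_of_card_le (fun y hy => ?_) ?_
    · obtain ⟨i, -, rfl⟩ := Finset.mem_map.mp hy
      exact hfix i
    · rw [Finset.card_map, Finset.card_univ, Fintype.card_fin]; omega
  have hxF : x ∈ F := by
    rw [hF, Finset.mem_filter, Cen.cls, Finset.mem_filter]
    exact ⟨⟨Finset.mem_univ _, hx⟩, h0⟩
  rw [← himg] at hxF
  obtain ⟨i, -, rfl⟩ := Finset.mem_map.mp hxF
  exact ⟨i, i.2, rfl⟩

theorem exists_fixed {x : pres.Gp} (hx : IsConj Cen.z x) : ∃ p, rep.hom nodup x p = p := by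
  classical
  haveI := He.finite
  haveI : Fintype pres.Gp := Fintype.ofFinite _
  have h := Cen.fix_card (x := x) (Finset.mem_filter.2 ⟨Finset.mem_univ _, hx⟩)
  obtain ⟨p, hp⟩ := Finset.card_pos.1 (by rw [h]; norm_num)
  exact ⟨p, (Finset.mem_filter.1 hp).2⟩

/-- A conjugate of `z` whose product with it has order 3 is moved to one of two elements. -/
theorem second {E : pres.Gp} (hE : IsConj Cen.z E) (h3 : (E * Cen.z) ^ 3 = 1) (hne : E ≠ Cen.z) :
    ∃ q : pres.Gp, q * Cen.z = Cen.z * q ∧ (q * E * q⁻¹ = hw [4] ∨ q * E * q⁻¹ = hw wTwo) := by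
  obtain ⟨p, hp⟩ := exists_fixed hE
  obtain ⟨g, hg, r, hr4, hgr⟩ := descend p
  have hro := get_range roots_ok.1 hr4
  rw [Bool.and_eq_true] at hro
  set W := rootW.getD r [] with hW
  have hm : (rep.hom nodup (hw W))⁻¹ rep.base = rep.hom nodup g p := by
    apply Fin.ext
    rw [run_eq hro.1, hgr]
    exact Nat.eq_of_beq_eq_true hro.2
  have hm' : rep.hom nodup (hw W) (rep.hom nodup g p) = rep.base :=
    (Equiv.Perm.eq_inv_iff_eq).1 hm.symm
  have hx : IsConj Cen.z (hw W * (g * E * g⁻¹) * (hw W)⁻¹) :=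
    (hE.trans (isConj_iff.2 ⟨g, rfl⟩)).trans (isConj_iff.2 ⟨hw W, rfl⟩)
  obtain ⟨i, hi, hxi⟩ := fix_base hx (by
    simp only [map_mul, map_inv, Equiv.Perm.mul_apply]
    rw [hm]
    rw [show (rep.hom nodup g)⁻¹ (rep.hom nodup g p) = p by
      rw [← Equiv.Perm.mul_apply, inv_mul_cancel, Equiv.Perm.one_apply], hp, hm'])
  have hX : hw (candX r i) = g * E * g⁻¹ := by
    rw [candX, ← hW, hw_append, hw_append, hw_rev, ← hxi]
    group
  have hn : r * 3825 + i < 15300 := by omega
  have h := surv _ hn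
  rw [survAt, show (r * 3825 + i) / 3825 = r by omega, show (r * 3825 + i) % 3825 = i by omega] at h
  simp only [Bool.or_eq_true, Bool.and_eq_true] at h
  have hzg : g * Cen.z * g⁻¹ = Cen.z := by rw [hg, mul_inv_cancel_right]
  rcases h with (h | h) | h
  · exfalso
    apply ne_of_neW h
    simp only [hw_append, hw_nil, hw_three, hX]
    have : (g * E * g⁻¹ * Cen.z) = g * (E * Cen.z) * g⁻¹ := by
      conv_lhs => rw [← hzg]
      group
    rw [this, ← pow_three', conj_pow, h3, mul_one, mul_inv_cancel]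
  · have e := eq_of_eqW h
    rw [hX, hw_three] at e
    refine absurd ?_ hne
    calc E = g⁻¹ * (g * E * g⁻¹) * g := by group
      _ = g⁻¹ * (g * Cen.z * g⁻¹) * g := by rw [e, hzg]
      _ = Cen.z := by group
  · set w := survW.getD (survx.get 16 (r * 3825 + i)) (false, [])
    have hwz : hw w.2 * Cen.z = Cen.z * hw w.2 := by
      have := eq_of_eqW h.1
      rwa [hw_append, hw_append, hw_three] at this
    refine ⟨hw w.2 * g, ((show Commute (hw w.2) Cen.z from hwz).mul_left hg).eq, ?_⟩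
    have e := eq_of_eqW h.2
    rw [hw_append, hw_append, hw_rev, hX] at e
    have e' : hw w.2 * g * E * (hw w.2 * g)⁻¹ = hw (bif w.1 then wTwo else [4]) := by
      rw [← e]; group
    cases hb : w.1 with
    | true => right; rw [e', hb]; rfl
    | false => left; rw [e', hb]; rfl

theorem transfer (γ : MulAut pres.Gp) {u v : List ℕ} (h : eqW u v = true) :
    γ (hw u) = γ (hw v) := by rw [eq_of_eqW h]

theorem transfer_ne (γ : MulAut pres.Gp) {u v : List ℕ} (h : neW u v = true) :
    γ (hw u) ≠ γ (hw v) := fun e => ne_of_neW h (γ.injective e)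

/-- Normal form on the four generators `d`, `e`, `a`, `b`. -/
theorem norm_ab (α : MulAut pres.Gp) : ∃ h : pres.Gp,
    (MulAut.conj h * α) Cen.z = Cen.z ∧ (MulAut.conj h * α) (hw [4]) = hw [4] ∧
    (((MulAut.conj h * α) (hw [0]) = hw [0] ∧ (MulAut.conj h * α) (hw [1]) = hw [1]) ∨
     ((MulAut.conj h * α) (hw [0]) = hw [1] ∧ (MulAut.conj h * α) (hw [1]) = hw [0])) := by
  obtain ⟨f1, f2, f3, f4, f5, f6, f7, f8, f9, f10, f11, f12, f13⟩ := gen_facts
  obtain ⟨h0, hh0⟩ := isConj_iff.1 (isConj_map α (IsConj.refl Cen.z)).symm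
  set β := MulAut.conj h0 * α with hβ
  have hβz : β Cen.z = Cen.z := by rw [hβ, MulAut.mul_apply, MulAut.conj_apply, hh0]
  have hez : IsConj Cen.z (hw [4]) := by
    rw [← eq_of_eqW f1, hw_append, hw_append, hw_three, show ([4, 3] : List ℕ) = [3, 4].reverse from rfl,
      hw_rev]
    exact isConj_iff.2 ⟨_, rfl⟩
  obtain ⟨q, hq, hqE⟩ := second (isConj_map β hez)
    (by
      have := transfer β f2
      rwa [hw_rep, hw_append, hw_three, hw_nil, map_pow, map_mul, map_one, hβz] at this)
    (by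
      intro e
      exact transfer_ne β f3 (by rw [e, hw_three, hβz]))
  set δ := MulAut.conj q * β with hδ
  have hδz : δ Cen.z = Cen.z := by
    rw [hδ, MulAut.mul_apply, hβz, MulAut.conj_apply, hq, mul_inv_cancel_right]
  have hcz : ∀ l, eqW ([l] ++ [3]) ([3] ++ [l]) = true → δ (hw [l]) * Cen.z = Cen.z * δ (hw [l]) := by
    intro l hl
    have := transfer δ hl
    rwa [hw_append, hw_append, hw_three, map_mul, map_mul, hδz] at this
  have hce : ∀ l, eqW ([l] ++ [4]) ([4] ++ [l]) = true →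
      δ (hw [l]) * δ (hw [4]) = δ (hw [4]) * δ (hw [l]) := by
    intro l hl
    have := transfer δ hl
    rwa [hw_append, hw_append, map_mul, map_mul] at this
  have hsq : ∀ l, eqW ([l] ++ [l]) [] = true → δ (hw [l]) * δ (hw [l]) = 1 := by
    intro l hl
    have := transfer δ hl
    rwa [hw_append, map_mul, hw_nil, map_one] at this
  have hn1 : ∀ l, neW [l] [] = true → δ (hw [l]) ≠ 1 := by
    intro l hl
    have := transfer_ne δ hl
    rwa [hw_nil, map_one] at this
  have hδe : δ (hw [4]) = hw [4] := by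
    rcases hqE with e | e
    · exact e
    exfalso
    obtain ⟨A, hA, eA⟩ := scanTwo (hcz 0 f4) (by rw [← e]; exact hce 0 f6)
    obtain ⟨n, hn, rfl⟩ := List.getElem_of_mem hA
    have h := get_range two_ok.1 (two_ok.2 ▸ hn)
    rw [twoAt, List.getD_eq_getElem _ _ hn] at h
    simp only [Bool.or_eq_true] at h
    rcases h with (h | h) | h
    · exact ne_of_neW h (by rw [hw_append, ← eA, hw_nil]; exact hsq 0 f8)
    · exact hn1 0 f11 (by rw [eA, eq_of_eqW h, hw_nil])
    · apply not_isConj_map_a δ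
      rw [eA, ← eq_of_eqW h, hw_append, hw_append, hw_rev, hw_three]
      exact isConj_iff.2 ⟨_, rfl⟩
  obtain ⟨A, hA, eA⟩ := scanE (hcz 0 f4) (by have := hce 0 f6; rwa [hδe] at this)
  obtain ⟨B, hB, eB⟩ := scanE (hcz 1 f5) (by have := hce 1 f7; rwa [hδe] at this)
  obtain ⟨i, hi, rfl⟩ := List.getElem_of_mem hA
  obtain ⟨j, hj, rfl⟩ := List.getElem_of_mem hB
  rw [pair_ok.2] at hi hj
  have h := get_range pair_ok.1 (show i * 24 + j < 576 by omega)
  rw [pairAt, show (i * 24 + j) / 24 = i by omega, show (i * 24 + j) % 24 = j by omega,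
    List.getD_eq_getElem _ _ (by rw [pair_ok.2]; exact hi),
    List.getD_eq_getElem _ _ (by rw [pair_ok.2]; exact hj)] at h
  simp only [Bool.or_eq_true] at h
  rcases h with (((((h | h) | h) | h) | h) | h) | h
  · exact absurd (by rw [hw_append, ← eA, hw_nil]; exact hsq 0 f8) (ne_of_neW h)
  · exact absurd (by rw [eA, eq_of_eqW h, hw_nil]) (hn1 0 f11)
  · exact absurd (by rw [hw_append, ← eB, hw_nil]; exact hsq 1 f9) (ne_of_neW h)
  · exact absurd (by rw [eB, eq_of_eqW h, hw_nil]) (hn1 1 f10)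
  · refine absurd ?_ (ne_of_neW h)
    rw [hw_rep, hw_append, ← eA, ← eB, ← map_mul, ← map_pow, ← hw_append, ← hw_rep,
      transfer δ f12, hw_nil, map_one]
  · refine absurd ?_ (transfer_ne δ f13)
    rw [hw_rep, hw_append, map_pow, map_mul, eA, eB, ← hw_append, ← hw_rep, eq_of_eqW h, hw_nil,
      map_one]
  · set w := pairW.getD (i * 24 + j) (0, false)
    rw [Bool.and_eq_true] at h
    have hqm : kE.getD w.1 [] ∈ kE := getD_mem (by rw [pair_ok.2]; exact Nat.le_of_ble_eq_true h.1)
    obtain ⟨q3, q4⟩ := kE_spec hqm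
    refine ⟨hw (kE.getD w.1 []) * (q * h0), ?_⟩
    have hc : MulAut.conj (hw (kE.getD w.1 []) * (q * h0)) * α =
        MulAut.conj (hw (kE.getD w.1 [])) * δ := by
      rw [hδ, hβ, map_mul, map_mul, mul_assoc, mul_assoc]
    rw [hc]
    simp only [MulAut.mul_apply, MulAut.conj_apply, hδz, hδe, eA, eB]
    refine ⟨by rw [q3, mul_inv_cancel_right], by rw [q4, mul_inv_cancel_right], ?_⟩
    cases hb : w.2 with
    | true =>
      rw [hb, cond_true, Bool.and_eq_true] at h
      right
      rw [← hw_rev, ← hw_append, ← hw_append, ← hw_append, ← hw_append]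
      exact ⟨eq_of_eqW h.2.1, eq_of_eqW h.2.2⟩
    | false =>
      rw [hb, cond_false, Bool.and_eq_true] at h
      left
      rw [← hw_rev, ← hw_append, ← hw_append, ← hw_append, ← hw_append]
      exact ⟨eq_of_eqW h.2.1, eq_of_eqW h.2.2⟩

/-- An element commuting with `e` in terms of the centraliser of `z`. -/
theorem to_cz {X Y : pres.Gp} {l : ℕ} (hl : eqW ([4, 3] ++ [l] ++ [3, 4]) [l] = true)
    (hY : Y = hw [l]) (he : X * hw [4] = hw [4] * X) (hX : X * Y = Y * X) :
    let X' := hw [4, 3] * X * hw [3, 4]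
    X' * Cen.z = Cen.z * X' ∧ X' * hw [l] = hw [l] * X' ∧
      ∀ Q, X' = hw Q → X = hw (conjW Q) := by
  intro X'
  have hr : hw [3, 4] = (hw [4, 3])⁻¹ := hw_rev [4, 3]
  have hz : Cen.z = hw [4, 3] * hw [4] * (hw [4, 3])⁻¹ := by
    rw [← hr, ← hw_append, ← hw_append, eq_of_eqW conj_facts.1, hw_three]
  have hl' : hw [l] = hw [4, 3] * hw [l] * (hw [4, 3])⁻¹ := by
    rw [← hr, ← hw_append, ← hw_append, eq_of_eqW hl]
  have key : ∀ u : pres.Gp, X * u = u * X →
      X' * (hw [4, 3] * u * (hw [4, 3])⁻¹) = hw [4, 3] * u * (hw [4, 3])⁻¹ * X' := by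
    intro u hu
    show hw [4, 3] * X * hw [3, 4] * _ = _ * (hw [4, 3] * X * hw [3, 4])
    rw [hr]
    calc _ = hw [4, 3] * (X * u) * (hw [4, 3])⁻¹ := by group
      _ = _ := by rw [hu]; group
  refine ⟨by rw [hz]; exact key _ he, by rw [hl']; exact key _ (hY ▸ hX), fun Q e => ?_⟩
  rw [conjW, hw_append, hw_append, ← e]
  show X = hw [3, 4] * (hw [4, 3] * X * hw [3, 4]) * hw [4, 3]
  rw [hr]
  group

theorem eq_of_letters {α β : MulAut pres.Gp} (h : ∀ l < 7, α (hw [l]) = β (hw [l])) : α = β := by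
  have := MonoidHom.eq_of_eqOn_dense pres.closure_val (f := α.toMonoidHom) (g := β.toMonoidHom) (by
    rintro _ ⟨l, hl, rfl⟩
    have := h l hl
    rwa [show hw [l] = pres.val l from mul_one _] at this)
  exact MulEquiv.ext fun x => DFunLike.congr_fun this x

theorem evalWord_congr {G : Type} [Group G] {v v' : ℕ → G} : ∀ {W : List ℕ},
    (∀ l ∈ W, v l = v' l) → evalWord v W = evalWord v' W
  | [], _ => rfl
  | l :: W, h => by
    show v l * evalWord v W = v' l * evalWord v' W
    rw [h l List.mem_cons_self, evalWord_congr fun x hx => h x (List.mem_cons_of_mem _ hx)]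

theorem map_word (γ : MulAut pres.Gp) : ∀ W : List ℕ,
    γ (hw W) = evalWord (fun l => γ (pres.val l)) W
  | [] => map_one γ
  | l :: W => by
    show γ (pres.val l * hw W) = γ (pres.val l) * _
    rw [map_mul, map_word γ W]

/-- An automorphism agrees, up to inner ones, with the identity or with the outer substitution. -/
theorem classify (α : MulAut pres.Gp) : ∃ h : pres.Gp,
    (∀ l < 7, (MulAut.conj h * α) (hw [l]) = hw [l]) ∨
    (∀ l < 7, (MulAut.conj h * α) (hw [l]) = hw (outer.getD l [])) := by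
  obtain ⟨h, hz, he, hab⟩ := norm_ab α
  set γ := MulAut.conj h * α with hγ
  obtain ⟨r1, r2, r3, r4, r5, r6, r7, r8, r9, r10, r11, r12, r13, r14, r15, r16⟩ := rel_facts
  have hce : ∀ l, eqW ([l] ++ [4]) ([4] ++ [l]) = true → γ (hw [l]) * hw [4] = hw [4] * γ (hw [l]) := by
    intro l hl
    have := transfer γ hl
    rwa [hw_append, hw_append, map_mul, map_mul, he] at this
  have hcm : ∀ l m, eqW ([l] ++ [m]) ([m] ++ [l]) = true →
      γ (hw [l]) * γ (hw [m]) = γ (hw [m]) * γ (hw [l]) := by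
    intro l m hl
    have := transfer γ hl
    rwa [hw_append, hw_append, map_mul, map_mul] at this
  have hc2 : γ (hw [2]) * γ (hw [2]) = 1 := by
    have := transfer γ r3; rwa [hw_append, map_mul, hw_nil, map_one] at this
  have hbc : (γ (hw [1]) * γ (hw [2])) ^ 3 = 1 := by
    have := transfer γ r4; rwa [hw_rep, hw_append, map_pow, map_mul, hw_nil, map_one] at this
  have hcd : (γ (hw [2]) * Cen.z) ^ 5 = γ (hw [0]) := by
    have := transfer γ r5; rwa [hw_rep, hw_append, map_pow, map_mul, hw_three, hz] at this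
  have habc : (γ (hw [0]) * γ (hw [1]) * γ (hw [2])) ^ 3 = hw [4] := by
    have := transfer γ r6
    rwa [hw_rep, hw_append, hw_append, map_pow, map_mul, map_mul, he] at this
  rcases hab with ⟨ha, hb⟩ | ⟨ha, hb⟩
  swap
  · exfalso
    obtain ⟨k1, k2, k3⟩ := to_cz (X := γ (hw [2])) (Y := γ (hw [0])) (l := 1) conj_facts.2.2 ha
      (hce 2 r1) (hcm 2 0 r2)
    obtain ⟨Q, hQ, eQ⟩ := scanB k1 k2
    have eC := k3 Q eQ
    obtain ⟨n, hn, rfl⟩ := List.getElem_of_mem hQ
    have h' := get_range c_ok'.1 (c_ok'.2 ▸ hn)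
    rw [cAt', List.getD_eq_getElem _ _ hn] at h'
    simp only [Bool.or_eq_true] at h'
    rcases h' with ((h' | h') | h') | h' <;> apply ne_of_neW h'
    · rw [hw_append, ← eC, hw_nil, hc2]
    · rw [hw_rep, hw_append, ← eC, hw_nil, ← hb, hbc]
    · rw [hw_rep, hw_append, hw_three, ← eC, hcd, ha]
    · rw [hw_rep, hw_append, hw_append, ← eC, ← habc, ha, hb]
  obtain ⟨k1, k2, k3⟩ := to_cz (X := γ (hw [2])) (Y := γ (hw [0])) (l := 0) conj_facts.2.1 ha
    (hce 2 r1) (hcm 2 0 r2)
  obtain ⟨Q, hQ, eQ⟩ := scanA k1 k2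
  have eC := k3 Q eQ
  obtain ⟨nc, hnc, rfl⟩ := List.getElem_of_mem hQ
  have hC : candC.any (Nat.beq nc) = true := by
    have h' := get_range c_ok.1 (c_ok.2 ▸ hnc)
    rw [cAt, List.getD_eq_getElem _ _ hnc] at h'
    simp only [Bool.or_eq_true] at h'
    rcases h' with (((h' | h') | h') | h') | h'
    · exact absurd (by rw [hw_append, ← eC, hw_nil, hc2]) (ne_of_neW h')
    · exact absurd (by rw [hw_rep, hw_append, ← eC, hw_nil, ← hb, hbc]) (ne_of_neW h')
    · exact absurd (by rw [hw_rep, hw_append, hw_three, ← eC, hcd, ha]) (ne_of_neW h')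
    · exact absurd (by rw [hw_rep, hw_append, hw_append, ← eC, ← habc, ha, hb]) (ne_of_neW h')
    · exact h'
  have cand : ∀ l, eqW ([l] ++ [4]) ([4] ++ [l]) = true → eqW ([l] ++ [0]) ([0] ++ [l]) = true →
      eqW ([l] ++ [1]) ([1] ++ [l]) = true → eqW ([l] ++ [l]) [] = true →
      eqW (repWord ([l] ++ [3]) 3) [] = true →
      ∃ n, candF.any (Nat.beq n) = true ∧ γ (hw [l]) = hw (conjW (kA.getD n [])) := by
    intro l l4 l0 l1 ll l3
    obtain ⟨j1, j2, j3⟩ := to_cz (X := γ (hw [l])) (Y := γ (hw [0])) (l := 0) conj_facts.2.1 ha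
      (hce l l4) (hcm l 0 l0)
    obtain ⟨-, jb, -⟩ := to_cz (X := γ (hw [l])) (Y := γ (hw [1])) (l := 1) conj_facts.2.2 hb
      (hce l l4) (hcm l 1 l1)
    obtain ⟨Q, hQ, eQ⟩ := scanA j1 j2
    have eF := j3 Q eQ
    obtain ⟨n, hn, rfl⟩ := List.getElem_of_mem hQ
    refine ⟨n, ?_, by rw [List.getD_eq_getElem _ _ hn]; exact eF⟩
    have h' := get_range f_ok (c_ok.2 ▸ hn)
    rw [fAt, List.getD_eq_getElem _ _ hn] at h'
    simp only [Bool.or_eq_true] at h'
    rcases h' with ((h' | h') | h') | h'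
    · exact absurd (by rw [hw_append, hw_append, ← eQ]; exact jb) (ne_of_neW h')
    · refine absurd ?_ (ne_of_neW h')
      have := transfer γ ll
      rw [hw_append, map_mul, hw_nil, map_one] at this
      rw [hw_append, ← eF, this, hw_nil]
    · refine absurd ?_ (ne_of_neW h')
      have := transfer γ l3
      rw [hw_rep, hw_append, map_pow, map_mul, hw_three, hz, hw_nil, map_one] at this
      rw [hw_rep, hw_append, hw_three, ← eF, this, hw_nil]
    · exact h'
  obtain ⟨nf, hF, eF⟩ := cand 5 r7 r8 r9 r10 r11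
  obtain ⟨ng, hG, eG⟩ := cand 6 r12 r13 r14 r15 r16
  have pick : ∀ {L : List ℕ} {n : ℕ}, L.any (Nat.beq n) = true → ∃ i < L.length, n = L.getD i 0 := by
    intro L n hL
    rw [List.any_eq_true] at hL
    obtain ⟨x, hx, hxe⟩ := hL
    obtain ⟨i, hi, rfl⟩ := List.getElem_of_mem hx
    exact ⟨i, hi, by rw [List.getD_eq_getElem _ _ hi]; exact Nat.eq_of_beq_eq_true hxe⟩
  obtain ⟨i, hi, rfl⟩ := pick hC
  obtain ⟨j, hj, rfl⟩ := pick hF
  obtain ⟨k, hk, rfl⟩ := pick hG
  rw [tup_ok.2.1] at hi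
  rw [tup_ok.2.2] at hj hk
  have ht := get_range tup_ok.1 (show i * 9 + j * 3 + k < 18 by omega)
  rw [tupAt, show (i * 9 + j * 3 + k) / 9 = i by omega,
    show (i * 9 + j * 3 + k) / 3 % 3 = j by omega, show (i * 9 + j * 3 + k) % 3 = k by omega] at ht
  set σ := tuple (candC.getD i 0) (candF.getD j 0) (candF.getD k 0) with hσ
  have hσl : ∀ l < 7, γ (hw [l]) = hw (σ.getD l []) := by
    intro l hl
    interval_cases l
    · exact ha
    · exact hb
    · rw [eC, ← List.getD_eq_getElem _ [] hnc]; rfl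
    · show γ (hw [3]) = hw [3]
      rw [hw_three]; exact hz
    · exact he
    · exact eF
    · exact eG
  simp only [Bool.or_eq_true] at ht
  rcases ht with ht | ht
  · exfalso
    rw [List.any_eq_true] at ht
    obtain ⟨W, hW, hne⟩ := ht
    rw [← Rep.rels_eq] at hW
    apply ne_of_neW hne
    rw [hw_subst, hw_nil, ← evalWord_congr (v := fun l => γ (pres.val l)) (fun l hl => ?_), ← map_word]
    · rw [show hw W = 1 from pres.rel_val W hW, map_one]
    · have hl7 : l < 7 := rep.word_letters hW l hl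
      have := hσl l hl7
      rwa [show hw [l] = pres.val l from mul_one _] at this
  · set w := tupW.getD (i * 9 + j * 3 + k) (0, false)
    rw [Bool.and_eq_true] at ht
    refine ⟨hw (kE.getD w.1 []) * h, ?_⟩
    have key : ∀ l < 7, (MulAut.conj (hw (kE.getD w.1 []) * h) * α) (hw [l]) =
        hw ((bif w.2 then outer else letters).getD l []) := by
      intro l hl
      rw [map_mul, mul_assoc, ← hγ, MulAut.mul_apply, hσl l hl, MulAut.conj_apply, ← hw_rev,
        ← hw_append, ← hw_append]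
      exact eq_of_eqW (get_range ht.2 hl)
    cases hb2 : w.2 with
    | true => right; intro l hl; rw [key l hl, hb2]; rfl
    | false =>
      left; intro l hl
      rw [key l hl, hb2, cond_false]
      interval_cases l <;> rfl

/-- The outer substitution. -/
noncomputable def outHom : pres.Gp →* pres.Gp :=
  PresentedGroup.toGroup (f := fun x => hw (outer.getD (pres.gens.idxOf x) [])) (pres.kills _ (by
    intro W hW
    have hlet := rep.word_letters hW
    have h := outer_ok.1
    rw [List.all_eq_true] at h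
    have e := eq_of_eqW (h W (Rep.rels_eq ▸ hW))
    rw [hw_subst, hw_nil] at e
    rw [← e]
    refine evalWord_congr fun l hl => ?_
    have hl' : l < pres.gens.length := rep.nl ▸ hlet l hl
    rw [letterVal_of_lt _ _ hl', nodup.idxOf_getElem l hl']))

theorem outHom_letter {l : ℕ} (hl : l < 7) : outHom (hw [l]) = hw (outer.getD l []) := by
  rw [show hw [l] = pres.val l from mul_one _]
  have hl' : l < pres.gens.length := hl
  rw [InvPres.val, letterVal_of_lt _ _ hl']
  exact (PresentedGroup.toGroup.of _).trans (by rw [nodup.idxOf_getElem l hl'])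

theorem outHom_bijective : Function.Bijective outHom := by
  haveI := He.finite
  haveI := He.simple
  have hinj : Function.Injective outHom := by
    rw [← MonoidHom.ker_eq_bot_iff]
    refine (IsSimpleGroup.eq_bot_or_eq_top_of_normal _ (MonoidHom.normal_ker outHom)).resolve_right ?_
    intro h
    have hz : outHom (hw [3]) = hw [3] := (outHom_letter (by norm_num)).trans (eq_of_eqW outer_ok.2.1)
    have hm : hw [3] ∈ outHom.ker := h ▸ Subgroup.mem_top _
    rw [MonoidHom.mem_ker, hz, hw_three] at hm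
    have := Cen.orderOf_z
    rw [hm, orderOf_one] at this
    omega
  exact ⟨hinj, Finite.injective_iff_surjective.1 hinj⟩

/-- The outer automorphism. -/
noncomputable def outAut : MulAut pres.Gp := MulEquiv.ofBijective outHom outHom_bijective

theorem outAut_letter {l : ℕ} (hl : l < 7) : outAut (hw [l]) = hw (outer.getD l []) :=
  outHom_letter hl

theorem outAut_not_inn : outAut ∉ Inn pres.Gp := by
  rintro ⟨g, hg⟩
  have hgl : ∀ l < 7, g * hw [l] * g⁻¹ = hw (outer.getD l []) := fun l hl => by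
    rw [← outAut_letter hl, ← hg]; rfl
  have h3 := hgl 3 (by norm_num)
  have h4 := hgl 4 (by norm_num)
  rw [eq_of_eqW outer_ok.2.1, hw_three, mul_inv_eq_iff_eq_mul] at h3
  rw [eq_of_eqW outer_ok.2.2, mul_inv_eq_iff_eq_mul] at h4
  obtain ⟨q, hq, rfl⟩ := scanE h3 h4
  have h := outer_not_inner
  rw [List.all_eq_true] at h
  have h' := h q hq
  rw [List.any_eq_true] at h'
  obtain ⟨l, hl, hne⟩ := h'
  exact ne_of_neW hne (by rw [hw_append, hw_append, hw_rev]; exact hgl l (List.mem_range.1 hl))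

theorem inn_or (α : MulAut pres.Gp) : α ∈ Inn pres.Gp ∨ ∃ i ∈ Inn pres.Gp, α = i * outAut := by
  obtain ⟨h, hh | hh⟩ := classify α
  · left
    have e : MulAut.conj h * α = 1 := eq_of_letters fun l hl => hh l hl
    rw [eq_inv_of_mul_eq_one_right e]
    exact (Inn pres.Gp).inv_mem ⟨h, rfl⟩
  · right
    have e : MulAut.conj h * α = outAut := eq_of_letters fun l hl => by rw [hh l hl, outAut_letter hl]
    exact ⟨(MulAut.conj h)⁻¹, (Inn pres.Gp).inv_mem ⟨h, rfl⟩, by rw [← e, inv_mul_cancel_left]⟩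

theorem card_out : Nat.card (Out pres.Gp) = 2 := by
  show (Inn pres.Gp).index = 2
  refine Subgroup.index_eq_two_iff.2 ⟨outAut, fun b => ?_⟩
  rcases inn_or b with hb | ⟨i, hi, hbe⟩
  · exact Or.inr ⟨hb, fun hbo => outAut_not_inn (by simpa using (Inn _).mul_mem ((Inn _).inv_mem hb) hbo)⟩
  · refine Or.inl ⟨?_, fun hb => outAut_not_inn ?_⟩
    · rcases inn_or (b * outAut) with h | ⟨j, hj, e⟩
      · exact h
      · exfalso
        have hbj : b = j := mul_right_cancel e
        rw [hbj] at hbe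
        exact outAut_not_inn (by
          simpa [hbe] using (Inn _).mul_mem ((Inn _).inv_mem hi) hj)
    · have := (Inn _).mul_mem ((Inn _).inv_mem hi) hb
      rwa [hbe, inv_mul_cancel_left] at this

end Cfsg.Agent.CosetEnum.He.Out
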