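import Cfsg.Agent.SporB.He.Cen.Iso
import Cfsg.Agent.SporB.He.Out.DataExt
import Cfsg.Agent.SporB.He.Out.DataWord

/-!
Words and scans in the table of He.
-/

set_option autoImplicit false
set_option maxRecDepth 100000

namespace Cfsg.Agent.CosetEnum.He.Out

open OutData

/-- The value of a word. -/
def hw (W : List ℕ) : pres.Gp := evalWord pres.val W

theorem hw_append (u v : List ℕ) : hw (u ++ v) = hw u * hw v := evalWord_append _ u v

theorem hw_nil : hw [] = 1 := rfl

theorem hw_rev (W : List ℕ) : hw W.reverse = (hw W)⁻¹ := Cen.inv_word W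

theorem hw_three : hw [3] = Cen.z := mul_one _

/-- All letters are valid. -/
def okW (W : List ℕ) : Bool := W.all fun l => Nat.blt l 7

/-- Two words agree on the base. -/
noncomputable def same (u v : List ℕ) : Bool :=
  allRange (fun j => Nat.beq (Rep.tbl.run u (Cen.base.getD j 0)) (Rep.tbl.run v (Cen.base.getD j 0))) 0 4

/-- Equality of words. -/
noncomputable def eqW (u v : List ℕ) : Bool := okW u && okW v && same u v

/-- Inequality of words. -/
noncomputable def neW (u v : List ℕ) : Bool := okW u && okW v && !same u v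

theorem okW_spec {W : List ℕ} (h : okW W = true) : ∀ l ∈ W, l < Rep.tbl.nl := by
  intro l hl
  rw [okW, List.all_eq_true] at h
  exact Nat.le_of_ble_eq_true (h l hl)

theorem run_eq {W : List ℕ} (h : okW W = true) (i : Fin Rep.tbl.n) :
    (((rep.hom nodup (hw W))⁻¹ i : Fin Rep.tbl.n) : ℕ) = Rep.tbl.run W i :=
  rep.hom_inv_apply nodup (okW_spec h) i

theorem eq_of_base {g k : pres.Gp}
    (h : ∀ j, (rep.hom nodup g)⁻¹ (Cen.bpt j) = (rep.hom nodup k)⁻¹ (Cen.bpt j)) : g = k := by
  have := Cen.eq_one_of_bpt (g := g * k⁻¹) fun j => by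
    rw [map_mul, map_inv, Equiv.Perm.mul_apply, ← h j, ← Equiv.Perm.mul_apply, mul_inv_cancel,
      Equiv.Perm.one_apply]
  exact mul_inv_eq_one.1 this

theorem eq_of_eqW {u v : List ℕ} (h : eqW u v = true) : hw u = hw v := by
  rw [eqW, Bool.and_eq_true, Bool.and_eq_true] at h
  obtain ⟨⟨h1, h2⟩, h3⟩ := h
  refine eq_of_base fun j => Fin.ext ?_
  rw [run_eq h1, run_eq h2]
  exact Nat.eq_of_beq_eq_true (allRange_spec h3 j (Nat.zero_le _) (by omega))

theorem ne_of_neW {u v : List ℕ} (h : neW u v = true) : hw u ≠ hw v := by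
  rw [neW, Bool.and_eq_true, Bool.and_eq_true] at h
  obtain ⟨⟨h1, h2⟩, h3⟩ := h
  intro e
  have hs : same u v = true := by
    have key : ∀ j : Fin 4, Nat.beq (Rep.tbl.run u (Cen.base.getD j.val 0))
        (Rep.tbl.run v (Cen.base.getD j.val 0)) = true := by
      intro j
      have h4 : Rep.tbl.run u (Cen.bpt j) = Rep.tbl.run v (Cen.bpt j) := by
        rw [← run_eq h1, ← run_eq h2, e]
      rw [show Cen.base.getD j.val 0 = ((Cen.bpt j : Fin Rep.tbl.n) : ℕ) from rfl, h4]
      exact Nat.beq_refl _
    show (Bool.rec (motive := fun _ => Bool) false (Bool.rec (motive := fun _ => Bool) false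
      (Bool.rec (motive := fun _ => Bool) false (Bool.rec (motive := fun _ => Bool) false true
        (Nat.beq (Rep.tbl.run u (Cen.base.getD (3 : Fin 4).val 0))
          (Rep.tbl.run v (Cen.base.getD (3 : Fin 4).val 0))))
        (Nat.beq (Rep.tbl.run u (Cen.base.getD (2 : Fin 4).val 0))
          (Rep.tbl.run v (Cen.base.getD (2 : Fin 4).val 0))))
        (Nat.beq (Rep.tbl.run u (Cen.base.getD (1 : Fin 4).val 0))
          (Rep.tbl.run v (Cen.base.getD (1 : Fin 4).val 0))))
        (Nat.beq (Rep.tbl.run u (Cen.base.getD (0 : Fin 4).val 0))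
          (Rep.tbl.run v (Cen.base.getD (0 : Fin 4).val 0))) : Bool) = true
    rw [key 3, key 2, key 1, key 0]
  rw [hs] at h3
  exact Bool.noConfusion h3

/-- Substitution of words for letters. -/
def subst (σ : List (List ℕ)) (W : List ℕ) : List ℕ := W.flatMap fun l => σ.getD l []

theorem hw_subst (σ : List (List ℕ)) : ∀ W : List ℕ,
    hw (subst σ W) = evalWord (fun l => hw (σ.getD l [])) W
  | [] => rfl
  | l :: W => by
    show hw (σ.getD l [] ++ subst σ W) = hw (σ.getD l []) * _
    rw [hw_append, hw_subst σ W]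

/-- The check of the further points of a node. -/
noncomputable def extCheck (k : ℕ) : Bool :=
  bif Nat.beq k 0 then
    allRange (fun s => Nat.beq (extx.get 16 s) (pts.getD s 0)) 0 16
  else forceNat (Cen.parx.get 16 k) fun p =>
    Nat.blt (p / 2) k &&
    allRange (fun s => Nat.beq (extx.get 16 (16 * k + s))
      (bif Nat.beq (p % 2) 0 then Cen.up (extx.get 16 (16 * (p / 2) + s))
        else Cen.vp (extx.get 16 (16 * (p / 2) + s)))) 0 16 &&
    allRange (fun j => Nat.beq (Cen.pnt k j)
      (bif Nat.beq (p % 2) 0 then Cen.up (Cen.pnt (p / 2) j) else Cen.vp (Cen.pnt (p / 2) j))) 0 4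

/-- A node commutes with a word on the base. -/
noncomputable def comm (L slots : List ℕ) (k : ℕ) : Bool :=
  allRange (fun j => Nat.beq (extx.get 16 (16 * k + slots.getD j 0)) (Rep.tbl.run L (Cen.pnt k j))) 0 4

/-- The packed images of the base under a node. -/
noncomputable def nkey (k : ℕ) : ℕ :=
  Cen.pnt k 0 + 65536 * (Cen.pnt k 1 + 65536 * (Cen.pnt k 2 + 65536 * Cen.pnt k 3))

/-- The packed images of the base under a word. -/
noncomputable def wkey (W : List ℕ) : ℕ :=
  Rep.tbl.run W 0 + 65536 * (Rep.tbl.run W 1 + 65536 * (Rep.tbl.run W 15 + 65536 * Rep.tbl.run W 34))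

/-- The check of a scan at a node. -/
noncomputable def scanAt (L slots keys : List ℕ) (k : ℕ) : Bool :=
  bif comm L slots k then forceNat (nkey k) (fun n => keys.any (Nat.beq n)) else true

/-- All scans at a node. -/
noncomputable def nodeAll (k : ℕ) : Bool :=
  extCheck k && scanAt [4] slE kEk k && scanAt wTwo slTwo kTwok k && scanAt [0] slA kAk k &&
    scanAt [1] slB kBk k && scanAt wS slS kSk k

/-- The slots of a word. -/
noncomputable def slotsOK (L slots : List ℕ) : Bool :=
  okW L && allRange (fun j => Nat.blt (slots.getD j 0) 16 &&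
    Nat.beq (pts.getD (slots.getD j 0) 0) (Rep.tbl.run L (Cen.base.getD j 0))) 0 4

/-- The keys of a list. -/
noncomputable def keysOK (ws : List (List ℕ)) (keys : List ℕ) : Bool :=
  ws.all okW && decide (ws.map wkey = keys)

/-- A point descends to a root under the centraliser. -/
noncomputable def descAt (i : ℕ) : Bool :=
  roots.any (Nat.beq i) || Nat.blt (rankx.get 16 (Cen.up i)) (rankx.get 16 i) ||
    Nat.blt (rankx.get 16 (Cen.vp i)) (rankx.get 16 i)

/-- The candidate from a root and a conjugate. -/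
noncomputable def candX (r i : ℕ) : List ℕ :=
  (rootW.getD r []).reverse ++ Cen.conjWord i ++ rootW.getD r []

/-- The check of a candidate. -/
noncomputable def survAt (n : ℕ) : Bool :=
  let X := candX (n / 3825) (n % 3825)
  let Y := X ++ [3]
  neW (Y ++ Y ++ Y) [] || eqW X [3] ||
    (let w := survW.getD (survx.get 16 n) (false, [])
     eqW (w.2 ++ [3]) ([3] ++ w.2) &&
      eqW (w.2 ++ X ++ w.2.reverse) (bif w.1 then wTwo else [4]))

end Cfsg.Agent.CosetEnum.He.Out
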