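import Cfsg.Agent.SporB.He.Out.Scan
import Mathlib.GroupTheory.Sylow

/-!
The class of the involution `d` of He is fixed by all automorphisms.
-/

set_option autoImplicit false
set_option maxRecDepth 100000

namespace Cfsg.Agent.CosetEnum.He.Out

open OutData

/-- The checks on the involutions of a small centraliser. -/
noncomputable def sAt (n : ℕ) : Bool :=
  let W := kS.getD n []
  let w := sW.getD n (0, [])
  neW (W ++ W) [] || eqW W [] || eqW W [3] ||
    (bif Nat.beq w.1 0 then eqW (w.2 ++ [3] ++ w.2.reverse) W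
      else eqW (w.2 ++ [0] ++ w.2.reverse) W)

theorem sAt_ok : allRange sAt 0 16 = true ∧ kS.length = 16 := by decide +kernel

theorem isConj_word {u : List ℕ} {l : ℕ} : IsConj (hw [l]) (hw (u ++ [l] ++ u.reverse)) := by
  rw [isConj_iff]
  exact ⟨hw u, by rw [hw_append, hw_append, hw_rev]⟩

theorem not_isConj_a : ¬ IsConj Cen.z (hw [0]) := by
  classical
  haveI := He.finite
  haveI : Fintype pres.Gp := Fintype.ofFinite _
  intro h
  have h42 := Cen.fix_card (x := hw [0]) (Finset.mem_filter.2 ⟨Finset.mem_univ _, h⟩)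
  have h154 : (Finset.univ.filter fun i : Fin Rep.tbl.n =>
      rep.hom nodup (hw [0]) i = i).card = 154 := by
    refine Eq.trans ?_ fix_count_a
    rw [show (2058 : ℕ) = Rep.tbl.n from rfl, ← ncard_fin_filter, ← Set.ncard_coe_finset]
    congr 1
    ext i
    simp only [Finset.coe_filter, Finset.mem_univ, true_and, Set.mem_ofPred_eq]
    rw [Fin.ext_iff, show hw [0] = pres.val 0 from mul_one _, rep.gen_apply nodup (by decide)]
    exact ⟨fun e => e.symm ▸ Nat.beq_refl _, Nat.eq_of_beq_eq_true⟩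
  omega

theorem factorization_two {m : ℕ} (hm : ¬ 2 ∣ m) : (2 ^ 10 * m).factorization 2 = 10 := by
  have hm0 : m ≠ 0 := fun e => hm (e ▸ dvd_zero 2)
  rw [Nat.factorization_mul (by norm_num) hm0, Finsupp.add_apply,
    Nat.Prime.factorization_pow Nat.prime_two, Finsupp.single_eq_same,
    Nat.factorization_eq_zero_of_not_dvd hm]

theorem exists_sylow {x : pres.Gp}
    (hc : Nat.card (Subgroup.centralizer ({x} : Set pres.Gp)) = 21504) (hx : x ^ 2 = 1)
    {H : Subgroup pres.Gp} (hH : IsPGroup 2 H) (hHC : H ≤ Subgroup.centralizer ({x} : Set pres.Gp)) :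
    ∃ Q : Sylow 2 pres.Gp, H ≤ Q ∧ (Q : Subgroup pres.Gp) ≤ Subgroup.centralizer ({x} : Set pres.Gp) ∧
      x ∈ (Q : Subgroup pres.Gp) := by
  haveI := He.finite
  haveI : Fact (Nat.Prime 2) := ⟨Nat.prime_two⟩
  set C := Subgroup.centralizer ({x} : Set pres.Gp) with hC
  obtain ⟨T, hT⟩ := (hH.comap_subtype (K := C)).exists_le_sylow
  have hp : IsPGroup 2 ((T : Subgroup C).map C.subtype) := T.isPGroup'.map _
  obtain ⟨Q, hQ⟩ := hp.exists_le_sylow
  have hcT : Nat.card ((T : Subgroup C).map C.subtype) = 2 ^ 10 := by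
    rw [← Nat.card_congr ((T : Subgroup C).equivMapOfInjective C.subtype
      C.subtype_injective).toEquiv, T.card_eq_multiplicity, hc,
      show (21504 : ℕ) = 2 ^ 10 * 21 by norm_num, factorization_two (by norm_num)]
  have hcQ : Nat.card Q = 2 ^ 10 := by
    rw [Q.card_eq_multiplicity, show Nat.card pres.Gp = 4030387200 from card_eq.1,
      show (4030387200 : ℕ) = 2 ^ 10 * 3935925 by norm_num, factorization_two (by norm_num)]
  have he : (T : Subgroup C).map C.subtype = Q :=
    Subgroup.eq_of_le_of_card_ge hQ (le_of_eq (hcQ.trans hcT.symm))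
  have hQC : (Q : Subgroup pres.Gp) ≤ C := he ▸ Subgroup.map_subtype_le _
  refine ⟨Q, fun g hg => ?_, hQC, ?_⟩
  · rw [← he]
    exact ⟨⟨g, hHC hg⟩, hT (Subgroup.mem_comap.2 hg), rfl⟩
  · have hz : IsPGroup 2 (Subgroup.zpowers x) := by
      rintro ⟨y, n, rfl⟩
      refine ⟨1, Subtype.ext ?_⟩
      show (x ^ n) ^ (2 ^ 1) = 1
      rw [← zpow_natCast, zpow_comm, zpow_natCast, pow_one, hx, one_zpow]
    have hn : (Q : Subgroup pres.Gp) ≤ Subgroup.normalizer (Subgroup.zpowers x : Set pres.Gp) := by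
      intro g hg
      have hgx : g * x = x * g := Subgroup.mem_centralizer_singleton_iff.1 (hQC hg)
      rw [Subgroup.mem_normalizer_iff]
      intro y
      constructor
      · rintro ⟨n, rfl⟩
        exact ⟨n, by rw [((show Commute g x from hgx).zpow_right n).eq, mul_inv_cancel_right]⟩
      · rintro ⟨n, e⟩
        refine ⟨n, ?_⟩
        have e1 : g⁻¹ * (g * y * g⁻¹) * g = y := by group
        rw [← e1, ← e, ((show Commute g x from hgx).inv_left.zpow_right n).eq,
          inv_mul_cancel_right]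
    have hsup := IsPGroup.to_sup_of_normal_right' Q.isPGroup' hz hn
    rw [← Q.3 hsup le_sup_left]
    exact Subgroup.mem_sup_right (Subgroup.mem_zpowers x)

theorem isConj_z_of_card {x : pres.Gp} (hx2 : x ^ 2 = 1) (hx1 : x ≠ 1)
    (hc : Nat.card (Subgroup.centralizer ({x} : Set pres.Gp)) = 21504) : IsConj Cen.z x := by
  haveI := He.finite
  haveI : Fact (Nat.Prime 2) := ⟨Nat.prime_two⟩
  have hz2 : Cen.z ^ 2 = 1 := by rw [← Cen.orderOf_z]; exact pow_orderOf_eq_one _
  have hs8 : hw wS ^ 8 = 1 := by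
    have := eq_of_eqW s_ok.1
    rwa [hw, evalWord_repWord] at this
  have hsz : hw wS * Cen.z = Cen.z * hw wS := by
    have := eq_of_eqW s_ok.2
    rwa [hw_append, hw_append, hw_three] at this
  obtain ⟨Q₁, -, hQ₁, hxQ⟩ := exists_sylow hc hx2 (H := ⊥) IsPGroup.of_bot bot_le
  obtain ⟨Q₂, hsQ, hQ₂, -⟩ := exists_sylow centralizer_eq.2 hz2
    (H := Subgroup.zpowers (hw wS)) (by
      rintro ⟨y, n, rfl⟩
      refine ⟨3, Subtype.ext ?_⟩
      show (hw wS ^ n) ^ (2 ^ 3) = 1
      rw [← zpow_natCast, zpow_comm, zpow_natCast, show (2 : ℕ) ^ 3 = 8 from rfl, hs8, one_zpow])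
    (Subgroup.zpowers_le.2 (Subgroup.mem_centralizer_singleton_iff.2 hsz))
  obtain ⟨g, hg⟩ := MulAction.exists_smul_eq pres.Gp Q₁ Q₂
  have hxQ₂ : g * x * g⁻¹ ∈ (Q₂ : Subgroup pres.Gp) := by
    rw [← hg, Sylow.coe_subgroup_smul]
    exact ⟨x, hxQ, rfl⟩
  have hcs : g * x * g⁻¹ * hw wS = hw wS * (g * x * g⁻¹) := by
    have hs : hw wS ∈ (Q₂ : Subgroup pres.Gp) := hsQ (Subgroup.mem_zpowers _)
    rw [← hg, Sylow.coe_subgroup_smul] at hs
    obtain ⟨q, hq, e⟩ := hs
    have e' : g * q * g⁻¹ = hw wS := e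
    have hqx : q * x = x * q := Subgroup.mem_centralizer_singleton_iff.1 (hQ₁ hq)
    rw [← e']
    calc g * x * g⁻¹ * (g * q * g⁻¹) = g * (x * q) * g⁻¹ := by group
      _ = g * (q * x) * g⁻¹ := by rw [hqx]
      _ = _ := by group
  obtain ⟨W, hW, hWe⟩ := scanS (Subgroup.mem_centralizer_singleton_iff.1 (hQ₂ hxQ₂)) hcs
  obtain ⟨n, hn, rfl⟩ := List.getElem_of_mem hW
  have h := allRange_spec sAt_ok.1 n (Nat.zero_le _) (by rw [← sAt_ok.2, Nat.zero_add]; exact hn)
  rw [sAt, List.getD_eq_getElem _ _ hn] at h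
  simp only [Bool.or_eq_true] at h
  have hxW : IsConj x (hw kS[n]) := isConj_iff.2 ⟨g, hWe⟩
  rcases h with ((h | h) | h) | h
  · exact absurd (by rw [hw_append, ← hWe, ← sq, conj_pow, hx2, mul_one, mul_inv_cancel, hw_nil])
      (ne_of_neW h)
  · have e := hWe.trans (eq_of_eqW h)
    exact absurd (by simpa [hw_nil] using e) hx1
  · rw [eq_of_eqW h, hw_three] at hxW
    exact hxW.symm
  · cases hb : Nat.beq (sW.getD n (0, [])).1 0 with
    | true =>
      rw [hb, cond_true] at h
      rw [← eq_of_eqW h] at hxW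
      have := hw_three ▸ (isConj_word (u := (sW.getD n (0, [])).2) (l := 3))
      exact this.trans hxW.symm
    | false =>
      rw [hb, cond_false] at h
      rw [← eq_of_eqW h] at hxW
      exfalso
      obtain ⟨k, hk⟩ := isConj_iff.1 (isConj_word.trans hxW.symm)
      -- an element of order five centralising `x`
      have h5a := eq_of_eqW five_ok.1
      rw [hw, evalWord_repWord] at h5a
      have hf : (hw [2, 3, 2, 3]) * hw [0] = hw [0] * hw [2, 3, 2, 3] := by
        rw [← hw_append, ← hw_append]; exact eq_of_eqW five_ok.2.2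
      haveI : Fact (Nat.Prime 5) := ⟨by norm_num⟩
      have hmem : k * hw [2, 3, 2, 3] * k⁻¹ ∈ Subgroup.centralizer ({x} : Set pres.Gp) := by
        rw [Subgroup.mem_centralizer_singleton_iff, ← hk]
        calc k * hw [2, 3, 2, 3] * k⁻¹ * (k * hw [0] * k⁻¹)
            = k * (hw [2, 3, 2, 3] * hw [0]) * k⁻¹ := by group
          _ = _ := by rw [hf]; group
      have ho : orderOf (k * hw [2, 3, 2, 3] * k⁻¹) = 5 := by
        refine orderOf_eq_prime ?_ ?_
        · rw [conj_pow, show hw [2, 3, 2, 3] ^ 5 = 1 from h5a, mul_one, mul_inv_cancel]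
        · intro e
          rw [conj_eq_one_iff] at e
          exact ne_of_neW five_ok.2.1 e
      have := Subgroup.orderOf_dvd_natCard _ hmem
      rw [ho, hc] at this
      norm_num at this

theorem card_centralizer_map {G : Type*} [Group G] (α : MulAut G) (x : G) :
    Nat.card (Subgroup.centralizer ({α x} : Set G)) = Nat.card (Subgroup.centralizer ({x} : Set G)) := by
  refine (Nat.card_congr ((α : G ≃* G).toEquiv.subtypeEquiv fun g => ?_)).symm
  show g ∈ Subgroup.centralizer ({x} : Set G) ↔ α g ∈ Subgroup.centralizer ({α x} : Set G)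
  rw [Subgroup.mem_centralizer_singleton_iff, Subgroup.mem_centralizer_singleton_iff,
    ← map_mul, ← map_mul, α.injective.eq_iff]

/-- Automorphisms fix the class of `z`. -/
theorem isConj_map (α : MulAut pres.Gp) {x : pres.Gp} (hx : IsConj Cen.z x) : IsConj Cen.z (α x) := by
  have hz2 : Cen.z ^ 2 = 1 := by rw [← Cen.orderOf_z]; exact pow_orderOf_eq_one _
  refine (isConj_z_of_card (x := α Cen.z) ?_ ?_ ?_).trans
    ((α : pres.Gp ≃* pres.Gp).toMonoidHom.map_isConj hx)
  · rw [← map_pow, hz2, map_one]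
  · intro e
    rw [map_eq_one_iff α α.injective] at e
    have := Cen.orderOf_z
    rw [e, orderOf_one] at this
    omega
  · rw [card_centralizer_map]; exact centralizer_eq.2

/-- Automorphisms keep the other class apart. -/
theorem not_isConj_map_a (α : MulAut pres.Gp) : ¬ IsConj Cen.z (α (hw [0])) := by
  intro h
  have := isConj_map α⁻¹ h
  rw [MulAut.inv_def, MulEquiv.symm_apply_apply] at this
  exact not_isConj_a this

end Cfsg.Agent.CosetEnum.He.Out
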