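import Cfsg.Agent.SporB.He.Out.Base

/-!
Checks of `nodeAll`, part 1.
-/

set_option autoImplicit false
set_option maxRecDepth 100000

namespace Cfsg.Agent.CosetEnum.He.Out

theorem nodes_7 : allRange nodeAll 3584 512 = true := by decide +kernel

theorem nodes_8 : allRange nodeAll 4096 512 = true := by decide +kernel

theorem nodes_9 : allRange nodeAll 4608 512 = true := by decide +kernel

theorem nodes_10 : allRange nodeAll 5120 512 = true := by decide +kernel

theorem nodes_11 : allRange nodeAll 5632 512 = true := by decide +kernel

theorem nodes_12 : allRange nodeAll 6144 512 = true := by decide +kernel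

theorem nodes_13 : allRange nodeAll 6656 512 = true := by decide +kernel

end Cfsg.Agent.CosetEnum.He.Out
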