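import Cfsg.Agent.SporB.He.Out.Base

/-!
Checks of `nodeAll`, part 2.
-/

set_option autoImplicit false
set_option maxRecDepth 100000

namespace Cfsg.Agent.CosetEnum.He.Out

theorem nodes_14 : allRange nodeAll 7168 512 = true := by decide +kernel

theorem nodes_15 : allRange nodeAll 7680 512 = true := by decide +kernel

theorem nodes_16 : allRange nodeAll 8192 512 = true := by decide +kernel

theorem nodes_17 : allRange nodeAll 8704 512 = true := by decide +kernel

theorem nodes_18 : allRange nodeAll 9216 512 = true := by decide +kernel

theorem nodes_19 : allRange nodeAll 9728 512 = true := by decide +kernel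

theorem nodes_20 : allRange nodeAll 10240 512 = true := by decide +kernel

end Cfsg.Agent.CosetEnum.He.Out
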