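import Cfsg.Agent.SporB.He.Out.Base

/-!
Checks of `nodeAll`, part 3.
-/

set_option autoImplicit false
set_option maxRecDepth 100000

namespace Cfsg.Agent.CosetEnum.He.Out

theorem nodes_21 : allRange nodeAll 10752 512 = true := by decide +kernel

theorem nodes_22 : allRange nodeAll 11264 512 = true := by decide +kernel

theorem nodes_23 : allRange nodeAll 11776 512 = true := by decide +kernel

theorem nodes_24 : allRange nodeAll 12288 512 = true := by decide +kernel

theorem nodes_25 : allRange nodeAll 12800 512 = true := by decide +kernel

theorem nodes_26 : allRange nodeAll 13312 512 = true := by decide +kernel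

theorem nodes_27 : allRange nodeAll 13824 512 = true := by decide +kernel

end Cfsg.Agent.CosetEnum.He.Out
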