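import Cfsg.Agent.SporB.He.Out.Base

/-!
Checks of `nodeAll`, part 4.
-/

set_option autoImplicit false
set_option maxRecDepth 100000

namespace Cfsg.Agent.CosetEnum.He.Out

theorem nodes_28 : allRange nodeAll 14336 512 = true := by decide +kernel

theorem nodes_29 : allRange nodeAll 14848 512 = true := by decide +kernel

theorem nodes_30 : allRange nodeAll 15360 512 = true := by decide +kernel

theorem nodes_31 : allRange nodeAll 15872 512 = true := by decide +kernel

theorem nodes_32 : allRange nodeAll 16384 512 = true := by decide +kernel

theorem nodes_33 : allRange nodeAll 16896 512 = true := by decide +kernel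

theorem nodes_34 : allRange nodeAll 17408 512 = true := by decide +kernel

end Cfsg.Agent.CosetEnum.He.Out
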