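import Cfsg.Agent.SporB.He.Out.Base

/-!
Checks of `nodeAll`, part 5.
-/

set_option autoImplicit false
set_option maxRecDepth 100000

namespace Cfsg.Agent.CosetEnum.He.Out

theorem nodes_35 : allRange nodeAll 17920 512 = true := by decide +kernel

theorem nodes_36 : allRange nodeAll 18432 512 = true := by decide +kernel

theorem nodes_37 : allRange nodeAll 18944 512 = true := by decide +kernel

theorem nodes_38 : allRange nodeAll 19456 512 = true := by decide +kernel

theorem nodes_39 : allRange nodeAll 19968 512 = true := by decide +kernel

theorem nodes_40 : allRange nodeAll 20480 512 = true := by decide +kernel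

theorem nodes_41 : allRange nodeAll 20992 512 = true := by decide +kernel

end Cfsg.Agent.CosetEnum.He.Out
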