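import Cfsg.Agent.SporB.He.Out.Nodes0
import Cfsg.Agent.SporB.He.Out.Nodes1
import Cfsg.Agent.SporB.He.Out.Nodes2
import Cfsg.Agent.SporB.He.Out.Nodes3
import Cfsg.Agent.SporB.He.Out.Nodes4
import Cfsg.Agent.SporB.He.Out.Nodes5

/-!
All checks of `nodeAll`.
-/

set_option autoImplicit false

namespace Cfsg.Agent.CosetEnum.He.Out

theorem nodes : ∀ i < 21504, nodeAll i = true := fun i hi =>
  if h2_0 : i < 10752 then
    if h4_0 : i < 5120 then
      if h6_0 : i < 2560 then
        if h8_0 : i < 1024 then
          if h10_0 : i < 512 then
            allRange_spec nodes_0 i (by omega) (by omega)
          else
            allRange_spec nodes_1 i (by omega) (by omega)
        else
          if h10_2 : i < 1536 then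
            allRange_spec nodes_2 i (by omega) (by omega)
          else
            if h12_3 : i < 2048 then
              allRange_spec nodes_3 i (by omega) (by omega)
            else
              allRange_spec nodes_4 i (by omega) (by omega)
      else
        if h8_5 : i < 3584 then
          if h10_5 : i < 3072 then
            allRange_spec nodes_5 i (by omega) (by omega)
          else
            allRange_spec nodes_6 i (by omega) (by omega)
        else
          if h10_7 : i < 4096 then
            allRange_spec nodes_7 i (by omega) (by omega)
          else
            if h12_8 : i < 4608 then
              allRange_spec nodes_8 i (by omega) (by omega)
            else
              allRange_spec nodes_9 i (by omega) (by omega)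
    else
      if h6_10 : i < 7680 then
        if h8_10 : i < 6144 then
          if h10_10 : i < 5632 then
            allRange_spec nodes_10 i (by omega) (by omega)
          else
            allRange_spec nodes_11 i (by omega) (by omega)
        else
          if h10_12 : i < 6656 then
            allRange_spec nodes_12 i (by omega) (by omega)
          else
            if h12_13 : i < 7168 then
              allRange_spec nodes_13 i (by omega) (by omega)
            else
              allRange_spec nodes_14 i (by omega) (by omega)
      else
        if h8_15 : i < 9216 then
          if h10_15 : i < 8192 then
            allRange_spec nodes_15 i (by omega) (by omega)
          else
            if h12_16 : i < 8704 then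
              allRange_spec nodes_16 i (by omega) (by omega)
            else
              allRange_spec nodes_17 i (by omega) (by omega)
        else
          if h10_18 : i < 9728 then
            allRange_spec nodes_18 i (by omega) (by omega)
          else
            if h12_19 : i < 10240 then
              allRange_spec nodes_19 i (by omega) (by omega)
            else
              allRange_spec nodes_20 i (by omega) (by omega)
  else
    if h4_21 : i < 15872 then
      if h6_21 : i < 13312 then
        if h8_21 : i < 11776 then
          if h10_21 : i < 11264 then
            allRange_spec nodes_21 i (by omega) (by omega)
          else
            allRange_spec nodes_22 i (by omega) (by omega)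
        else
          if h10_23 : i < 12288 then
            allRange_spec nodes_23 i (by omega) (by omega)
          else
            if h12_24 : i < 12800 then
              allRange_spec nodes_24 i (by omega) (by omega)
            else
              allRange_spec nodes_25 i (by omega) (by omega)
      else
        if h8_26 : i < 14336 then
          if h10_26 : i < 13824 then
            allRange_spec nodes_26 i (by omega) (by omega)
          else
            allRange_spec nodes_27 i (by omega) (by omega)
        else
          if h10_28 : i < 14848 then
            allRange_spec nodes_28 i (by omega) (by omega)
          else
            if h12_29 : i < 15360 then
              allRange_spec nodes_29 i (by omega) (by omega)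
            else
              allRange_spec nodes_30 i (by omega) (by omega)
    else
      if h6_31 : i < 18432 then
        if h8_31 : i < 16896 then
          if h10_31 : i < 16384 then
            allRange_spec nodes_31 i (by omega) (by omega)
          else
            allRange_spec nodes_32 i (by omega) (by omega)
        else
          if h10_33 : i < 17408 then
            allRange_spec nodes_33 i (by omega) (by omega)
          else
            if h12_34 : i < 17920 then
              allRange_spec nodes_34 i (by omega) (by omega)
            else
              allRange_spec nodes_35 i (by omega) (by omega)
      else
        if h8_36 : i < 19968 then
          if h10_36 : i < 18944 then
            allRange_spec nodes_36 i (by omega) (by omega)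
          else
            if h12_37 : i < 19456 then
              allRange_spec nodes_37 i (by omega) (by omega)
            else
              allRange_spec nodes_38 i (by omega) (by omega)
        else
          if h10_39 : i < 20480 then
            allRange_spec nodes_39 i (by omega) (by omega)
          else
            if h12_40 : i < 20992 then
              allRange_spec nodes_40 i (by omega) (by omega)
            else
              allRange_spec nodes_41 i (by omega) (by omega)

end Cfsg.Agent.CosetEnum.He.Out
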