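import Cfsg.Agent.SporB.He.Out.Base

/-!
Checks of `nodeAll`, part 0.
-/

set_option autoImplicit false
set_option maxRecDepth 100000

namespace Cfsg.Agent.CosetEnum.He.Out

theorem nodes_0 : allRange nodeAll 0 512 = true := by decide +kernel

theorem nodes_1 : allRange nodeAll 512 512 = true := by decide +kernel

theorem nodes_2 : allRange nodeAll 1024 512 = true := by decide +kernel

theorem nodes_3 : allRange nodeAll 1536 512 = true := by decide +kernel

theorem nodes_4 : allRange nodeAll 2048 512 = true := by decide +kernel

theorem nodes_5 : allRange nodeAll 2560 512 = true := by decide +kernel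

theorem nodes_6 : allRange nodeAll 3072 512 = true := by decide +kernel

end Cfsg.Agent.CosetEnum.He.Out
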