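import Cfsg.Agent.SporB.He.Out.Small
import Cfsg.Agent.SporB.He.Out.Nodes

/-!
Centralisers inside the centraliser of an involution of He, by scanning its elements.
-/

set_option autoImplicit false
set_option maxRecDepth 100000

namespace Cfsg.Agent.CosetEnum.He.Out

open OutData

/-- A further point. -/
def ptF (s : Fin 16) : Fin Rep.tbl.n := ⟨pts.getD s.val 0, pts_lt s⟩

/-- The image of a node. -/
theorem node_elem : ∀ k < 21504, ∃ q : pres.Gp,
    (∀ j : Fin 4, ((rep.hom nodup q (Cen.bpt j) : Fin Rep.tbl.n) : ℕ) = Cen.pnt k j) ∧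
    ∀ s : Fin 16, ((rep.hom nodup q (ptF s) : Fin Rep.tbl.n) : ℕ) = extx.get 16 (16 * k + s) := by
  intro k
  induction k using Nat.strong_induction_on with
  | _ k ih =>
    intro hk
    have h := nodes k hk
    simp only [nodeAll, Bool.and_eq_true] at h
    have hc := h.1.1.1.1.1
    rcases eq_or_ne k 0 with rfl | h0
    · refine ⟨1, fun j => ?_, fun s => ?_⟩
      · rw [map_one, Cen.pnt_zero]; rfl
      · rw [map_one]
        rw [extCheck, show Nat.beq 0 0 = true from rfl, cond_true] at hc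
        rw [Nat.mul_zero, Nat.zero_add]
        exact (Nat.eq_of_beq_eq_true (allRange_spec hc s (Nat.zero_le _) (by omega))).symm
    have hb : Nat.beq k 0 = false := by
      cases e : Nat.beq k 0 with
      | false => rfl
      | true => exact absurd (Nat.eq_of_beq_eq_true e) h0
    rw [extCheck, hb, cond_false, forceNat_eq] at hc
    simp only [Bool.and_eq_true] at hc
    obtain ⟨⟨hlt, he⟩, hp⟩ := hc
    set p := Cen.parx.get 16 k
    have hm : p / 2 < k := Nat.le_of_ble_eq_true hlt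
    obtain ⟨q, hq1, hq2⟩ := ih _ hm (by omega)
    cases hb2 : Nat.beq (p % 2) 0 with
    | true =>
      refine ⟨Cen.pu * q, fun j => ?_, fun s => ?_⟩
      · rw [map_mul, Equiv.Perm.mul_apply, Cen.hom_pu, hq1]
        have := Nat.eq_of_beq_eq_true (allRange_spec hp j (Nat.zero_le _) (by omega))
        rw [hb2, cond_true] at this
        exact this.symm
      · rw [map_mul, Equiv.Perm.mul_apply, Cen.hom_pu, hq2]
        have := Nat.eq_of_beq_eq_true (allRange_spec he s (Nat.zero_le _) (by omega))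
        rw [hb2, cond_true] at this
        exact this.symm
    | false =>
      refine ⟨Cen.pv * q, fun j => ?_, fun s => ?_⟩
      · rw [map_mul, Equiv.Perm.mul_apply, Cen.hom_pv, hq1]
        have := Nat.eq_of_beq_eq_true (allRange_spec hp j (Nat.zero_le _) (by omega))
        rw [hb2, cond_false] at this
        exact this.symm
      · rw [map_mul, Equiv.Perm.mul_apply, Cen.hom_pv, hq2]
        have := Nat.eq_of_beq_eq_true (allRange_spec he s (Nat.zero_le _) (by omega))
        rw [hb2, cond_false] at this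
        exact this.symm

theorem centralizer_eq : Cen.toHe.range = Subgroup.centralizer ({Cen.z} : Set pres.Gp) ∧
    Nat.card (Subgroup.centralizer ({Cen.z} : Set pres.Gp)) = 21504 := by
  haveI := He.finite
  have hH : Cen.toHe.range ≤ Subgroup.centralizer ({Cen.z} : Set pres.Gp) := by
    rw [Cen.toHe, MonoidHom.range_comp, Subgroup.range_subtype, Cen.graph, MonoidHom.map_closure,
      Subgroup.closure_le]
    rintro _ ⟨p, hp, rfl⟩
    rcases hp with rfl | rfl
    exacts [Cen.pu_comm.1, Cen.pu_comm.2]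
  have hg : 21504 ≤ Nat.card Cen.toHe.range := by
    rw [← Nat.card_congr (MonoidHom.ofInjective Cen.toHe_inj).toEquiv]
    choose p hp hpm using Cen.node_reached
    refine le_of_eq_of_le (Nat.card_fin 21504).symm
      (Nat.card_le_card_of_injective (fun k : Fin 21504 => (⟨p k k.2, hp k k.2⟩ : Cen.graph)) ?_)
    intro a b h
    apply Fin.ext
    refine Cen.code_inj a.2 b.2 ?_
    rw [← hpm a a.2, ← hpm b b.2]
    exact congrArg (fun q : Cen.graph =>
      ((q : Cen.S5 × pres.Gp).1 : Matrix (Fin 5) (Fin 5) (ZMod 2))) h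
  have heq := Subgroup.eq_of_le_of_card_ge hH (Cen.centralizer_card_le.trans hg)
  exact ⟨heq, le_antisymm Cen.centralizer_card_le (heq ▸ hg)⟩

theorem node_of_mem {g : pres.Gp} (hg : g * Cen.z = Cen.z * g) : ∃ k < 21504,
    (∀ j : Fin 4, ((rep.hom nodup g (Cen.bpt j) : Fin Rep.tbl.n) : ℕ) = Cen.pnt k j) ∧
    ∀ s : Fin 16, ((rep.hom nodup g (ptF s) : Fin Rep.tbl.n) : ℕ) = extx.get 16 (16 * k + s) := by
  have hmem : g ∈ Cen.toHe.range := by
    rw [centralizer_eq.1, Subgroup.mem_centralizer_singleton_iff]; exact hg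
  obtain ⟨⟨p, hp⟩, rfl⟩ := hmem
  obtain ⟨k, hk, -, ht⟩ := Cen.graph_node hp
  obtain ⟨q, hq1, hq2⟩ := node_elem k hk
  have e : Cen.toHe ⟨p, hp⟩ = q := by
    apply inv_injective
    refine eq_of_base fun j => ?_
    rw [map_inv, map_inv, inv_inv, inv_inv]
    exact Fin.ext (by rw [hq1]; exact ht j)
  exact ⟨k, hk, fun j => ht j, fun s => by rw [e]; exact hq2 s⟩

theorem scan_spec {L slots keys : List ℕ} {ws : List (List ℕ)} (hsl : slotsOK L slots = true)
    (hkeys : keysOK ws keys = true) (hall : ∀ k < 21504, scanAt L slots keys k = true)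
    {g : pres.Gp} (hz : g * Cen.z = Cen.z * g) (hL : g * hw L = hw L * g) :
    ∃ W ∈ ws, g = hw W := by
  have hz' : g⁻¹ * Cen.z = Cen.z * g⁻¹ :=
    ((show Commute g Cen.z from hz).inv_left).eq
  obtain ⟨k, hk, hb, hs⟩ := node_of_mem hz'
  rw [slotsOK, Bool.and_eq_true] at hsl
  obtain ⟨hLok, hsl⟩ := hsl
  have hcomm : comm L slots k = true := by
    have key : ∀ j : Fin 4, Nat.beq (extx.get 16 (16 * k + slots.getD j.val 0))
        (Rep.tbl.run L (Cen.pnt k j.val)) = true := by
      intro j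
      have h1 := allRange_spec hsl j (Nat.zero_le _) (by omega)
      rw [Bool.and_eq_true] at h1
      have h2 : slots.getD j.val 0 < 16 := Nat.le_of_ble_eq_true h1.1
      have h3 := Nat.eq_of_beq_eq_true h1.2
      have e1 : Rep.tbl.run L (Cen.pnt k j.val) =
          (((rep.hom nodup (hw L))⁻¹ (rep.hom nodup g⁻¹ (Cen.bpt j)) : Fin Rep.tbl.n) : ℕ) := by
        rw [run_eq hLok, hb]
      have e2 : ptF ⟨slots.getD j.val 0, h2⟩ = (rep.hom nodup (hw L))⁻¹ (Cen.bpt j) := by
        apply Fin.ext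
        rw [run_eq hLok]
        exact h3
      have e3 : extx.get 16 (16 * k + slots.getD j.val 0) = Rep.tbl.run L (Cen.pnt k j.val) := by
        rw [e1, ← hs ⟨_, h2⟩, e2, ← map_inv (rep.hom nodup) (hw L), ← Equiv.Perm.mul_apply,
          ← Equiv.Perm.mul_apply, ← map_mul, ← map_mul, ((show Commute g (hw L) from hL).inv_inv).eq]
      rw [e3]
      exact Nat.beq_refl _
    show (Bool.rec (motive := fun _ => Bool) false (Bool.rec (motive := fun _ => Bool) false
      (Bool.rec (motive := fun _ => Bool) false (Bool.rec (motive := fun _ => Bool) false true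
        (Nat.beq (extx.get 16 (16 * k + slots.getD (3 : Fin 4).val 0))
          (Rep.tbl.run L (Cen.pnt k (3 : Fin 4).val))))
        (Nat.beq (extx.get 16 (16 * k + slots.getD (2 : Fin 4).val 0))
          (Rep.tbl.run L (Cen.pnt k (2 : Fin 4).val))))
        (Nat.beq (extx.get 16 (16 * k + slots.getD (1 : Fin 4).val 0))
          (Rep.tbl.run L (Cen.pnt k (1 : Fin 4).val))))
        (Nat.beq (extx.get 16 (16 * k + slots.getD (0 : Fin 4).val 0))
          (Rep.tbl.run L (Cen.pnt k (0 : Fin 4).val))) : Bool) = true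
    rw [key 3, key 2, key 1, key 0]
  have h := hall k hk
  rw [scanAt, hcomm, cond_true, forceNat_eq, List.any_eq_true] at h
  obtain ⟨n, hn, hne⟩ := h
  rw [keysOK, Bool.and_eq_true, decide_eq_true_eq, List.all_eq_true] at hkeys
  rw [← hkeys.2, List.mem_map] at hn
  obtain ⟨W, hW, rfl⟩ := hn
  refine ⟨W, hW, ?_⟩
  have hWok := hkeys.1 W hW
  have hlt : ∀ j : Fin 4, Cen.pnt k j < 65536 ∧
      Rep.tbl.run W ((Cen.bpt j : Fin Rep.tbl.n) : ℕ) < 65536 := by
    intro j
    have h1 := (rep.hom nodup g⁻¹ (Cen.bpt j)).2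
    have h2 := ((rep.hom nodup (hw W))⁻¹ (Cen.bpt j)).2
    rw [hb] at h1
    rw [run_eq hWok] at h2
    have h1' : Cen.pnt k j < 2058 := h1
    have h2' : Rep.tbl.run W ((Cen.bpt j : Fin Rep.tbl.n) : ℕ) < 2058 := h2
    omega
  have e := Nat.eq_of_beq_eq_true hne
  simp only [nkey, wkey] at e
  have a0 := hlt 0; have a1 := hlt 1; have a2 := hlt 2; have a3 := hlt 3
  rw [show ((Cen.bpt 0 : Fin Rep.tbl.n) : ℕ) = 0 from rfl] at a0
  rw [show ((Cen.bpt 1 : Fin Rep.tbl.n) : ℕ) = 1 from rfl] at a1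
  rw [show ((Cen.bpt 2 : Fin Rep.tbl.n) : ℕ) = 15 from rfl] at a2
  rw [show ((Cen.bpt 3 : Fin Rep.tbl.n) : ℕ) = 34 from rfl] at a3
  simp only [Fin.val_zero, Fin.val_one, Fin.val_two] at a0 a1 a2
  have a3' : Cen.pnt k 3 < 65536 := a3.1
  refine eq_of_base fun j => Fin.ext ?_
  rw [← map_inv, hb, run_eq hWok]
  fin_cases j
  · show Cen.pnt k 0 = Rep.tbl.run W 0; omega
  · show Cen.pnt k 1 = Rep.tbl.run W 1; omega
  · show Cen.pnt k 2 = Rep.tbl.run W 15; omega
  · show Cen.pnt k 3 = Rep.tbl.run W 34; omega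

theorem descend : ∀ i : Fin Rep.tbl.n, ∃ g : pres.Gp, g * Cen.z = Cen.z * g ∧
    ∃ r < 4, ((rep.hom nodup g i : Fin Rep.tbl.n) : ℕ) = roots.getD r 0 := by
  intro i
  induction hr : rankx.get 16 (i : ℕ) using Nat.strong_induction_on generalizing i with
  | _ m ih =>
    have h := allRange_spec desc_ok i (Nat.zero_le _)
      (by rw [Nat.zero_add]; exact i.2)
    simp only [descAt, Bool.or_eq_true, List.any_eq_true] at h
    rcases h with (⟨r, hr', hri⟩ | h) | h
    · obtain ⟨t, ht, rfl⟩ := List.getElem_of_mem hr'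
      refine ⟨1, by simp, t, roots_ok.2 ▸ ht, ?_⟩
      rw [map_one, List.getD_eq_getElem _ _ ht]
      exact Nat.eq_of_beq_eq_true hri
    · obtain ⟨g, hg, r, hr4, e⟩ := ih _
        (hr ▸ Nat.le_of_ble_eq_true h) (rep.hom nodup Cen.pu i) (by rw [Cen.hom_pu])
      have hp := Subgroup.mem_centralizer_singleton_iff.1 Cen.pu_comm.1
      refine ⟨g * Cen.pu, ((show Commute g Cen.z from hg).mul_left hp).eq, r, hr4, ?_⟩
      rw [map_mul, Equiv.Perm.mul_apply, e]
    · obtain ⟨g, hg, r, hr4, e⟩ := ih _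
        (hr ▸ Nat.le_of_ble_eq_true h) (rep.hom nodup Cen.pv i) (by rw [Cen.hom_pv])
      have hp := Subgroup.mem_centralizer_singleton_iff.1 Cen.pu_comm.2
      refine ⟨g * Cen.pv, ((show Commute g Cen.z from hg).mul_left hp).eq, r, hr4, ?_⟩
      rw [map_mul, Equiv.Perm.mul_apply, e]

theorem scanE {g : pres.Gp} (hz : g * Cen.z = Cen.z * g) (h : g * hw [4] = hw [4] * g) :
    ∃ W ∈ kE, g = hw W :=
  scan_spec slots_ok.1 keys_ok.1 (fun k hk => by
    have h := nodes k hk; simp only [nodeAll, Bool.and_eq_true] at h; exact h.1.1.1.1.2) hz h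

theorem scanTwo {g : pres.Gp} (hz : g * Cen.z = Cen.z * g) (h : g * hw wTwo = hw wTwo * g) :
    ∃ W ∈ kTwo, g = hw W :=
  scan_spec slots_ok.2.1 keys_ok.2.1 (fun k hk => by
    have h := nodes k hk; simp only [nodeAll, Bool.and_eq_true] at h; exact h.1.1.1.2) hz h

theorem scanA {g : pres.Gp} (hz : g * Cen.z = Cen.z * g) (h : g * hw [0] = hw [0] * g) :
    ∃ W ∈ kA, g = hw W :=
  scan_spec slots_ok.2.2.1 keys_ok.2.2.1 (fun k hk => by
    have h := nodes k hk; simp only [nodeAll, Bool.and_eq_true] at h; exact h.1.1.2) hz h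

theorem scanB {g : pres.Gp} (hz : g * Cen.z = Cen.z * g) (h : g * hw [1] = hw [1] * g) :
    ∃ W ∈ kB, g = hw W :=
  scan_spec slots_ok.2.2.2.1 keys_ok.2.2.2.1 (fun k hk => by
    have h := nodes k hk; simp only [nodeAll, Bool.and_eq_true] at h; exact h.1.2) hz h

theorem scanS {g : pres.Gp} (hz : g * Cen.z = Cen.z * g) (h : g * hw wS = hw wS * g) :
    ∃ W ∈ kS, g = hw W :=
  scan_spec slots_ok.2.2.2.2 keys_ok.2.2.2.2 (fun k hk => by
    have h := nodes k hk; simp only [nodeAll, Bool.and_eq_true] at h; exact h.2) hz h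

end Cfsg.Agent.CosetEnum.He.Out
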