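import Cfsg.Agent.SporB.He.Out.Base

/-!
Small checks on the tables for the automorphisms of He.
-/

set_option autoImplicit false
set_option maxRecDepth 100000

namespace Cfsg.Agent.CosetEnum.He.Out

open OutData

theorem slots_ok : slotsOK [4] slE = true ∧ slotsOK wTwo slTwo = true ∧ slotsOK [0] slA = true ∧
    slotsOK [1] slB = true ∧ slotsOK wS slS = true := by decide +kernel

theorem keys_ok : keysOK kE kEk = true ∧ keysOK kTwo kTwok = true ∧ keysOK kA kAk = true ∧
    keysOK kB kBk = true ∧ keysOK kS kSk = true := by decide +kernel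

theorem desc_ok : allRange descAt 0 2058 = true := by decide +kernel

theorem roots_ok : allRange (fun r => okW (rootW.getD r []) &&
    Nat.beq (Rep.tbl.run (rootW.getD r []) 0) (roots.getD r 0)) 0 4 = true ∧ roots.length = 4 := by
  decide +kernel

theorem pts_lt : ∀ s : Fin 16, pts.getD s.val 0 < 2058 := by decide +kernel

theorem fix_count_a : countBelow (fun i => Nat.beq (Rep.tbl.at' i 0) i) 2058 = 154 := by decide +kernel

theorem five_ok : eqW (repWord [2, 3, 2, 3] 5) [] = true ∧ neW [2, 3, 2, 3] [] = true ∧
    eqW ([2, 3, 2, 3] ++ [0]) ([0] ++ [2, 3, 2, 3]) = true := by decide +kernel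

theorem s_ok : eqW (repWord wS 8) [] = true ∧ eqW (wS ++ [3]) ([3] ++ wS) = true := by decide +kernel

end Cfsg.Agent.CosetEnum.He.Out
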