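import Cfsg.Agent.SporB.He.Out.Base

/-!
Checks of `survAt`, part 0.
-/

set_option autoImplicit false
set_option maxRecDepth 100000

namespace Cfsg.Agent.CosetEnum.He.Out

theorem surv_0 : allRange survAt 0 256 = true := by decide +kernel

theorem surv_1 : allRange survAt 256 256 = true := by decide +kernel

theorem surv_2 : allRange survAt 512 256 = true := by decide +kernel

theorem surv_3 : allRange survAt 768 256 = true := by decide +kernel

theorem surv_4 : allRange survAt 1024 256 = true := by decide +kernel

theorem surv_5 : allRange survAt 1280 256 = true := by decide +kernel

theorem surv_6 : allRange survAt 1536 256 = true := by decide +kernel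

theorem surv_7 : allRange survAt 1792 256 = true := by decide +kernel

theorem surv_8 : allRange survAt 2048 256 = true := by decide +kernel

theorem surv_9 : allRange survAt 2304 256 = true := by decide +kernel

end Cfsg.Agent.CosetEnum.He.Out
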